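import Cfsg.Agent.Fusion.Puig
import Cfsg.Agent.Fusion.Essential
import Cfsg.Agent.Fusion.NormalCriteria
import Cfsg.Agent.Fusion.CharAut

/-!
A map of `F` on a centric subgroup `R` whose restriction to a self-centralizing normal subgroup of
`R` lies in a saturated subsystem `E` lies in `E`, provided maps on larger subgroups do.
-/

set_option autoImplicit false
set_option linter.style.haveILetI false

namespace Cfsg.Lib.Fusion.Small

open Cfsg Cfsg.FusionSystem Cfsg.Lib.Fusion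

universe u

variable {Ω : Type u} [Group Ω] {S : Subgroup Ω} {E F : FusionSystem S} {p : ℕ}

/-- The automorphisms in the system fixing `X` pointwise and trivial modulo `X`. -/
def chainAut (F : FusionSystem S) (R X : Subgroup Ω) [Finite R] (hX : X ≤ R) :
    Subgroup (MulAut R) where
  carrier := {α | α ∈ F.autGroup R ∧ (∀ x ∈ X, autFun α x = x) ∧ ∀ r ∈ R, autFun α r * r⁻¹ ∈ X}
  one_mem' := ⟨Subgroup.one_mem _, fun x hx => autFun_one (hX hx), fun r hr => by
    rw [autFun_one hr, mul_inv_cancel]; exact X.one_mem⟩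
  mul_mem' := by
    rintro α β ⟨ha, ha1, ha2⟩ ⟨hb, hb1, hb2⟩
    refine ⟨Subgroup.mul_mem _ ha hb, fun x hx => ?_, fun r hr => ?_⟩
    · rw [autFun_mul _ _ (hX hx), hb1 x hx, ha1 x hx]
    · rw [autFun_mul _ _ hr]
      have := X.mul_mem (ha2 _ (autFun_mem β hr)) (hb2 r hr)
      convert this using 1
      group
  inv_mem' := by
    rintro α ⟨ha, ha1, ha2⟩
    refine ⟨Subgroup.inv_mem _ ha, fun x hx => ?_, fun r hr => ?_⟩
    · have h := autFun_inv_left α (hX hx)
      rwa [ha1 x hx] at h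
    · have h := ha2 _ (autFun_mem α⁻¹ hr)
      rw [autFun_inv_apply α hr] at h
      simpa using X.inv_mem h

theorem isPGroup_chainAut [Finite S] [Fact p.Prime] (hS : IsPGroup p S) {R X : Subgroup Ω}
    [Finite R] (hX : X ≤ R) (hR : R ≤ S) : IsPGroup p (chainAut F R X hX) := by
  rintro ⟨α, ha, ha1, ha2⟩
  have key : ∀ (r : Ω) (hr : r ∈ R) (k : ℕ),
      autFun (α ^ k) r = (autFun α r * r⁻¹) ^ k * r := by
    intro r hr k
    induction k with
    | zero => rw [pow_zero, pow_zero, autFun_one hr, one_mul]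
    | succ k ih =>
      have hd := ha2 r hr
      rw [pow_succ', autFun_mul _ _ hr, ih]
      have hm := (isMap_autFun hR).mpr ha
      rw [hm.map_mul (hX (X.pow_mem hd k)) hr, ha1 _ (X.pow_mem hd k), pow_succ, mul_assoc]
      congr 1
      group
  obtain ⟨m, hm⟩ : ∃ m, Nat.card R = p ^ m :=
    IsPGroup.iff_card.mp (hS.of_injective _ (Subgroup.inclusion_injective hR))
  refine ⟨m, Subtype.ext ?_⟩
  rw [Subgroup.coe_pow, Subgroup.coe_one]
  refine eq_one_of_autFun fun r hr => ?_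
  rw [key r hr]
  have h1 : (autFun α r * r⁻¹) ^ p ^ m = 1 := by
    have h2 : (⟨_, hX (ha2 r hr)⟩ : R) ^ Nat.card R = 1 := pow_card_eq_one'
    rw [hm] at h2
    exact congrArg Subtype.val h2
  rw [h1, one_mul]

theorem conj_chainAut {R X : Subgroup Ω} [Finite R] (hX : X ≤ R) (hR : R ≤ S) {γ β : MulAut R}
    (hγ : γ ∈ stabAut F R X X hX hX) (hβ : β ∈ chainAut F R X hX) :
    γ * β * γ⁻¹ ∈ chainAut F R X hX := by
  obtain ⟨hb, hb1, hb2⟩ := hβ
  have hγi := (stabAut F R X X hX hX).inv_mem hγ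
  refine ⟨Subgroup.mul_mem _ (Subgroup.mul_mem _ hγ.1 hb) hγi.1, fun x hx => ?_, fun r hr => ?_⟩
  · rw [autFun_mul _ _ (hX hx), autFun_mul _ _ (autFun_mem _ (hX hx)), hb1 _ (hγi.2.1 x hx)]
    exact autFun_inv_apply γ (hX hx)
  · rw [autFun_mul _ _ hr, autFun_mul _ _ (autFun_mem _ hr)]
    set y := autFun γ⁻¹ r
    have hy : y ∈ R := autFun_mem _ hr
    have h := hγ.2.1 _ (hb2 y hy)
    have hm := (isMap_autFun hR).mpr hγ.1
    rw [hm.map_mul (autFun_mem β hy) (R.inv_mem hy), hm.map_inv hy, autFun_inv_apply γ hr] at h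
    exact h

/-- Every `p`-subgroup of the stabilizer of `X` can be conjugated there into `Aut_S(R)`. -/
def Placed (F : FusionSystem S) (p : ℕ) (R X : Subgroup Ω) [Finite R] (hX : X ≤ R) : Prop :=
  ∀ U : Subgroup (MulAut R), IsPGroup p U → U ≤ stabAut F R X X hX hX →
    ∃ η ∈ stabAut F R X X hX hX, ∀ u ∈ U, η * u * η⁻¹ ∈ autInducedBy S R

theorem chainAut_le_autS [Finite S] [Fact p.Prime] (hS : IsPGroup p S) {R X : Subgroup Ω}
    [Finite R] {hX : X ≤ R} (hR : R ≤ S) (hpl : Placed F p R X hX) :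
    chainAut F R X hX ≤ autInducedBy S R := by
  have hsub : chainAut F R X hX ≤ stabAut F R X X hX hX := fun β hβ =>
    ⟨hβ.1, fun x hx => (hβ.2.1 x hx).symm ▸ hx, fun x hx => (hβ.2.1 x hx).symm ▸ hx⟩
  obtain ⟨η, hη, he⟩ := hpl _ (isPGroup_chainAut hS hX hR) hsub
  intro β hβ
  have h := he _ (conj_chainAut hX hR ((stabAut F R X X hX hX).inv_mem hη) hβ)
  simpa [mul_assoc] using h

/-- An automorphism of a centric subgroup which on a self-centralizing subgroup is a map of `E`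
is a map of `E`. -/
theorem core [Finite S] [Fact p.Prime] (hS : IsPGroup p S) (hE : E.IsSaturated p)
    (hle : ∀ (P : Subgroup Ω) (f : Ω → Ω), IsMap E P f → IsMap F P f)
    {R X : Subgroup Ω} [Finite R] (hX : X ≤ R) (hRc : F.IsCentric R) (hrec : F.IsReceptive R)
    (hXn : R ≤ Subgroup.normalizer (X : Set Ω))
    (hCX : ∀ r ∈ R, (∀ x ∈ X, r * x * r⁻¹ = x) → r ∈ X)
    (hpl : Placed F p R X hX)
    (hIH : ∀ (T : Subgroup Ω) (f : Ω → Ω), Nat.card R < Nat.card T → IsMap F T f → IsMap E T f)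
    {a : MulAut R} (ha : a ∈ stabAut F R X X hX hX) (haX : IsMap E X (autFun a)) :
    IsMap E R (autFun a) := by
  have hR := hRc.1
  have hXS : X ≤ S := hX.trans hR
  have hDS := chainAut_le_autS hS hR hpl
  by_cases hD : chainAut F R X hX ≤ Inn R
  swap
  · obtain ⟨β, hβ, hβI⟩ := SetLike.not_le_iff_exists.mp hD
    exact (good_of_conj (p := p) (isMapClass_isMap F E) hR hrec hIH ha.1 (hDS hβ) hβI
      (hDS (conj_chainAut hX hR ha hβ))).2
  -- move `X` to a fully normalized subgroup inside `E`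
  obtain ⟨Xs, hXXs, hXs⟩ := exists_fullyNormalized (F := E) hXS
  obtain ⟨-, hfa, hrecX⟩ := fullyNormalized_props hS hE hXs
  obtain ⟨k₀, hk₀, hk₀i⟩ := isConj_iff.mp hXXs
  obtain ⟨χ, -, k, hk, hki, -, -⟩ := exists_map_normalizer hS hfa hrecX hk₀ hk₀i
  have hRN : R ≤ normalizerIn S X := fun r hr => ⟨hR hr, hXn hr⟩
  have hkR : IsMap E R k := hk.mono hRN
  have hkF : IsMap F R k := hle _ _ hkR
  set R₁ := img R k with hR₁
  obtain ⟨m, hm, hmi, hml, hmr⟩ := hkR.exists_inv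
  have hconj : F.IsConj R R₁ := isConj_iff.mpr ⟨k, hkF, rfl⟩
  have hC₁ : centralizerIn S R₁ ≤ R₁ := hRc.2 _ hconj
  have hR₁S : R₁ ≤ S := hkR.img_le
  haveI := finite_of_le hR₁S
  have hkX : ∀ x ∈ X, k x ∈ Xs := fun x hx => hki ▸ IsMap.apply_mem_img hx
  have hXs' : ∀ z ∈ Xs, ∃ x ∈ X, k x = z := fun z hz =>
    (hk.mono (hX.trans hRN)).mem_img.mp (hki.symm ▸ hz)
  have hXsR₁ : Xs ≤ R₁ := fun z hz => by
    obtain ⟨x, hx, rfl⟩ := hXs' z hz
    exact IsMap.apply_mem_img (hX hx)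
  have hnX : ∀ r ∈ R, ∀ x ∈ X, r * x * r⁻¹ ∈ X := fun r hr x hx =>
    conj_mem_of_mem_normalizer (hXn hr) hx
  have hR₁n : ∀ r₁ ∈ R₁, ∀ z ∈ Xs, r₁ * z * r₁⁻¹ ∈ Xs := by
    intro r₁ hr₁ z hz
    obtain ⟨r, hr, rfl⟩ := hkR.mem_img.mp hr₁
    obtain ⟨x, hx, rfl⟩ := hXs' z hz
    rw [← hkR.map_conj hr (hX hx)]
    exact hkX _ (hnX r hr x hx)
  -- the centralizer of `Xs` lies in `R₁`
  set W := centralizerIn S Xs
  have hW : W ≤ R₁ := by
    by_contra hle'
    have hWn : ∀ r₁ ∈ R₁, ∀ w ∈ W, r₁ * w * r₁⁻¹ ∈ W := fun r₁ hr₁ w hw =>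
      mem_centralizerIn.mpr ⟨S.mul_mem (S.mul_mem (hR₁S hr₁) (mem_centralizerIn.mp hw).1)
        (S.inv_mem (hR₁S hr₁)), fun z hz => by
        have h1 : r₁⁻¹ * z * r₁ ∈ Xs := by simpa using hR₁n _ (R₁.inv_mem hr₁) z hz
        calc r₁ * w * r₁⁻¹ * z * (r₁ * w * r₁⁻¹)⁻¹
            = r₁ * (w * (r₁⁻¹ * z * r₁) * w⁻¹) * r₁⁻¹ := by group
          _ = r₁ * (r₁⁻¹ * z * r₁) * r₁⁻¹ := by rw [(mem_centralizerIn.mp hw).2 _ h1]
          _ = z := by group⟩
    have hlt : R₁ < R₁ ⊔ W := lt_of_le_of_ne le_sup_left fun h => hle' (h.symm ▸ le_sup_right)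
    obtain ⟨v, hv, hvR⟩ :=
      SetLike.exists_of_lt (lt_inf_normalizer hS hlt (sup_le hR₁S inf_le_left))
    have hv1 : v ∈ ((R₁ ⊔ W : Subgroup Ω) : Set Ω) := hv.1
    have hWnorm : R₁ ≤ Subgroup.normalizer (W : Set Ω) := fun r₁ hr₁ => by
      haveI : Finite W := finite_of_le inf_le_left
      exact mem_normalizer_of_maps_finite fun w hw => hWn r₁ hr₁ w hw
    rw [Subgroup.coe_mul_of_left_le_normalizer_right R₁ W hWnorm] at hv1
    obtain ⟨q₀, hq₀, y, hy, rfl⟩ := hv1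
    have hyn : y ∈ Subgroup.normalizer (R₁ : Set Ω) := by
      have := Subgroup.mul_mem _ (Subgroup.inv_mem _ (Subgroup.le_normalizer hq₀)) hv.2
      rwa [inv_mul_cancel_left] at this
    refine hvR (R₁.mul_mem hq₀ ?_)
    have hyS : y ∈ S := (mem_centralizerIn.mp hy).1
    have hyc : ∀ z ∈ Xs, y * z * y⁻¹ = z := (mem_centralizerIn.mp hy).2
    have hmem : ∀ r ∈ R, y * k r * y⁻¹ ∈ R₁ := fun r hr =>
      conj_mem_of_mem_normalizer hyn (IsMap.apply_mem_img hr)
    have hg : IsMap F R (fun r => m (y * k r * y⁻¹)) :=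
      (hkF.comp (isMap_conj hR₁S hyS) fun r hr => IsMap.apply_mem_img hr).comp (hle _ _ hm) hmem
    have hgR : img R (fun r => m (y * k r * y⁻¹)) = R :=
      Subgroup.eq_of_le_of_card_ge
        (IsMap.img_le_iff.mpr fun r hr => hmi.le (IsMap.apply_mem_img (hmem r hr))) hg.card_img.ge
    obtain ⟨β, hβ, hβe⟩ := hg.exists_aut hgR
    have hβD : β ∈ chainAut F R X hX := by
      refine ⟨hβ, fun x hx => ?_, fun r hr => ?_⟩
      · rw [hβe x (hX hx)]
        show m (y * k x * y⁻¹) = x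
        rw [hyc _ (hkX x hx), hml x (hX hx)]
      · have hd : autFun β r * r⁻¹ ∈ R := R.mul_mem (autFun_mem β hr) (R.inv_mem hr)
        refine hCX _ hd fun x hx => hkR.injOn (R.mul_mem (R.mul_mem hd (hX hx)) (R.inv_mem hd))
          (hX hx) ?_
        rw [hkR.map_conj hd (hX hx), hkR.map_mul (autFun_mem β hr) (R.inv_mem hr), hkR.map_inv hr,
          hβe r hr]
        show k (m (y * k r * y⁻¹)) * (k r)⁻¹ * k x * (k (m (y * k r * y⁻¹)) * (k r)⁻¹)⁻¹ = k x
        rw [hmr _ (hmem r hr)]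
        have hz := hkX x hx
        have h1 : (k r)⁻¹ * k x * k r ∈ Xs := by
          simpa using hR₁n _ (R₁.inv_mem (IsMap.apply_mem_img hr)) _ hz
        have h2 : y⁻¹ * ((k r)⁻¹ * k x * k r) * y = (k r)⁻¹ * k x * k r := by
          conv_lhs => rw [← hyc _ h1]
          group
        calc y * k r * y⁻¹ * (k r)⁻¹ * k x * (y * k r * y⁻¹ * (k r)⁻¹)⁻¹
            = y * (k r * (y⁻¹ * ((k r)⁻¹ * k x * k r) * y) * (k r)⁻¹) * y⁻¹ := by group
          _ = y * k x * y⁻¹ := by rw [h2]; group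
          _ = k x := hyc _ hz
    obtain ⟨q, hq⟩ := hD hβD
    have hC : (k q)⁻¹ * y ∈ centralizerIn S R₁ := mem_centralizerIn.mpr
      ⟨S.mul_mem (S.inv_mem (hkR.mem_S q.2)) hyS, fun z hz => by
        obtain ⟨r, hr, rfl⟩ := hkR.mem_img.mp hz
        have h1 : autFun β r = q * r * (q : Ω)⁻¹ := by
          rw [← hq, autFun_apply_mem _ hr]; rfl
        have h2 : k (autFun β r) = y * k r * y⁻¹ := by rw [hβe r hr]; exact hmr _ (hmem r hr)
        rw [h1, hkR.map_conj q.2 hr] at h2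
        calc (k q)⁻¹ * y * k r * ((k q)⁻¹ * y)⁻¹ = (k q)⁻¹ * (y * k r * y⁻¹) * k q := by group
          _ = k r := by rw [← h2]; group⟩
    have h3 := R₁.mul_mem (IsMap.apply_mem_img (f := k) q.2) (hC₁ hC)
    rwa [mul_inv_cancel_left] at h3
  -- extend the restriction inside `E`
  have hka : IsMap E X (k ∘ autFun a) :=
    haX.comp (hkR.mono hX) fun x hx => ha.2.1 x hx
  have hi : img X (k ∘ autFun a) = Xs := by
    haveI := finite_of_le hXs.1
    refine Subgroup.eq_of_le_of_card_ge (IsMap.img_le_iff.mpr fun x hx => hkX _ (ha.2.1 x hx)) ?_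
    rw [hka.card_img, ← (hkR.mono hX).card_img, hki]
  obtain ⟨e, he, hag⟩ := receptive_extend hrecX hka hi
  have hma := (isMap_autFun hR).mpr ha.1
  have hext : R ≤ extSub S X (k ∘ autFun a) := fun r hr =>
    ⟨hR hr, hXn hr, k (autFun a r), hkR.mem_S (autFun_mem a hr), fun x hx => by
      show k (autFun a (r * x * r⁻¹)) = k (autFun a r) * k (autFun a x) * (k (autFun a r))⁻¹
      rw [hma.map_conj hr (hX hx), hkR.map_conj (autFun_mem a hr) (autFun_mem a (hX hx))]⟩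
  have heR : IsMap E R e := he.mono hext
  have hw : ∀ r ∈ R, (k (autFun a r))⁻¹ * e r ∈ W := by
    intro r hr
    refine mem_centralizerIn.mpr
      ⟨S.mul_mem (S.inv_mem (hkR.mem_S (autFun_mem a hr))) (heR.mem_S hr), fun z hz => ?_⟩
    obtain ⟨x, hx, rfl⟩ := hka.mem_img.mp (hi.symm ▸ hz)
    have h1 := heR.map_conj hr (hX hx)
    rw [hag _ (hnX r hr x hx), hag x hx] at h1
    have h2 : (k ∘ autFun a) (r * x * r⁻¹) =
        k (autFun a r) * (k ∘ autFun a) x * (k (autFun a r))⁻¹ := by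
      show k (autFun a (r * x * r⁻¹)) = k (autFun a r) * k (autFun a x) * (k (autFun a r))⁻¹
      rw [hma.map_conj hr (hX hx), hkR.map_conj (autFun_mem a hr) (autFun_mem a (hX hx))]
    calc (k (autFun a r))⁻¹ * e r * (k ∘ autFun a) x * ((k (autFun a r))⁻¹ * e r)⁻¹
        = (k (autFun a r))⁻¹ * (e r * (k ∘ autFun a) x * (e r)⁻¹) * k (autFun a r) := by group
      _ = (k ∘ autFun a) x := by rw [← h1, h2]; group
  have he₁ : ∀ r ∈ R, e r ∈ R₁ := fun r hr => by
    have := R₁.mul_mem (IsMap.apply_mem_img (autFun_mem a hr)) (hW (hw r hr))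
    rwa [mul_inv_cancel_left] at this
  have hg : IsMap F R (fun r => autFun a⁻¹ (m (e r))) :=
    ((hle _ _ heR).comp (hle _ _ hm) he₁).comp
      ((isMap_autFun hR).mpr (Subgroup.inv_mem _ ha.1))
      fun r hr => hmi.le (IsMap.apply_mem_img (he₁ r hr))
  have hgmem : ∀ r ∈ R, m (e r) ∈ R := fun r hr => hmi.le (IsMap.apply_mem_img (he₁ r hr))
  have hgR : img R (fun r => autFun a⁻¹ (m (e r))) = R :=
    Subgroup.eq_of_le_of_card_ge
      (IsMap.img_le_iff.mpr fun r hr => autFun_mem a⁻¹ (hgmem r hr)) hg.card_img.ge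
  obtain ⟨β, hβ, hβe⟩ := hg.exists_aut hgR
  -- `a β = m e`
  have hab : ∀ r ∈ R, autFun a (autFun β r) = m (e r) := fun r hr => by
    rw [hβe r hr]; exact autFun_inv_apply a (hgmem r hr)
  have hβD : β ∈ chainAut F R X hX := by
    refine ⟨hβ, fun x hx => ?_, fun r hr => ?_⟩
    · rw [hβe x (hX hx)]
      show autFun a⁻¹ (m (e x)) = x
      rw [hag x hx]
      show autFun a⁻¹ (m (k (autFun a x))) = x
      rw [hml _ (autFun_mem a (hX hx)), autFun_inv_left a (hX hx)]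
    · have hd : autFun β r * r⁻¹ ∈ R := R.mul_mem (autFun_mem β hr) (R.inv_mem hr)
      refine hCX _ hd fun x hx => ?_
      have hu : autFun a (autFun β r * r⁻¹) ∈ R := autFun_mem a hd
      refine hma.injOn (R.mul_mem (R.mul_mem hd (hX hx)) (R.inv_mem hd)) (hX hx) ?_
      refine hkR.injOn (autFun_mem a (R.mul_mem (R.mul_mem hd (hX hx)) (R.inv_mem hd)))
        (autFun_mem a (hX hx)) ?_
      rw [hma.map_conj hd (hX hx), hkR.map_conj hu (autFun_mem a (hX hx)),
        hma.map_mul (autFun_mem β hr) (R.inv_mem hr), hma.map_inv hr, hab r hr,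
        hkR.map_mul (hgmem r hr) (R.inv_mem (autFun_mem a hr)), hkR.map_inv (autFun_mem a hr),
        hmr _ (he₁ r hr)]
      set v := k (autFun a r)
      have hv : v ∈ R₁ := IsMap.apply_mem_img (autFun_mem a hr)
      have hz : k (autFun a x) ∈ Xs := hkX _ (ha.2.1 x hx)
      have h1 : v⁻¹ * k (autFun a x) * v ∈ Xs := by simpa using hR₁n _ (R₁.inv_mem hv) _ hz
      calc e r * v⁻¹ * k (autFun a x) * (e r * v⁻¹)⁻¹
          = v * (v⁻¹ * e r * (v⁻¹ * k (autFun a x) * v) * (v⁻¹ * e r)⁻¹) * v⁻¹ := by group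
        _ = k (autFun a x) := by rw [(mem_centralizerIn.mp (hw r hr)).2 _ h1]; group
  -- `β` is inner, hence in `E`
  obtain ⟨q, hq⟩ := hD hβD
  have hβE : IsMap E R (autFun β) :=
    (isMap_conj (F := E) hR (hR q.2)).congr fun r hr => by rw [← hq, autFun_apply_mem _ hr]; rfl
  have hβi : IsMap E R (autFun β⁻¹) := by
    obtain ⟨g, hg', -, hgl, -⟩ := hβE.exists_inv
    rw [img_autFun] at hg'
    exact hg'.congr fun r hr => by
      conv_rhs => rw [← autFun_inv_apply β hr]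
      exact (hgl _ (autFun_mem _ hr)).symm
  refine ((hβi.comp heR fun r hr => autFun_mem β⁻¹ hr).comp hm fun r hr =>
    he₁ _ (autFun_mem β⁻¹ hr)).congr fun r hr => ?_
  show autFun a r = m (e (autFun β⁻¹ r))
  rw [← hab _ (autFun_mem β⁻¹ hr), autFun_inv_apply β hr]

/-- A map into a placed subgroup can be corrected to extend to the normalizer. -/
theorem exists_corrected [Finite S] [Fact p.Prime] (hS : IsPGroup p S) {R Q X : Subgroup Ω}
    [Finite Q] (hXQ : X ≤ Q) (hrec : F.IsReceptive Q) (hpl : Placed F p Q X hXQ) {Y : Subgroup Ω}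
    (hY : Y ≤ R) (hYn : normalizerIn S R ≤ Subgroup.normalizer (Y : Set Ω))
    {f₀ : Ω → Ω} (hf₀ : IsMap F R f₀) (hi : img R f₀ = Q) (hiY : img Y f₀ = X) :
    ∃ η ∈ stabAut F Q X X hXQ hXQ, ∃ f, IsMap F (normalizerIn S R) f ∧
      ∀ x ∈ R, f x = autFun η (f₀ x) := by
  let e := (MulAut.congr (hf₀.equiv hi)).toMonoidHom.comp (normalizerInHom S R)
  have hespec : ∀ (g : Ω) (hg : g ∈ normalizerIn S R), ∀ x ∈ R,
      autFun (e ⟨g, hg⟩) (f₀ x) = f₀ (g * x * g⁻¹) := fun g hg x hx => by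
    show autFun (MulAut.congr (hf₀.equiv hi) (normalizerInHom S R ⟨g, hg⟩)) (f₀ x) = _
    rw [congr_equiv_spec hf₀ hi _ hx, autFun_apply_mem _ hx]
    rfl
  have hest : e.range ≤ stabAut F Q X X hXQ hXQ := by
    rintro _ ⟨⟨g, hg⟩, rfl⟩
    have h : ∀ x ∈ X, autFun (e ⟨g, hg⟩) x ∈ X := fun x hx => by
      obtain ⟨y, hy, rfl⟩ := (hf₀.mono hY).mem_img.mp (hiY.symm ▸ hx)
      rw [hespec g hg y (hY hy)]
      exact hiY ▸ IsMap.apply_mem_img (conj_mem_of_mem_normalizer (hYn hg) hy)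
    exact ⟨congr_mem_autGroup hf₀ hi
      (autInducedBy_le hf₀.le (range_normalizerInHom (S := S) R ▸ ⟨⟨g, hg⟩, rfl⟩)), h, h⟩
  have hep : IsPGroup p e.range :=
    (hS.of_injective _ (Subgroup.inclusion_injective inf_le_left)).of_surjective _
      e.rangeRestrict_surjective
  obtain ⟨η, hη, hηK⟩ := hpl _ hep hest
  have hQS : Q ≤ S := hrec.1
  have hmem : ∀ x ∈ R, f₀ x ∈ Q := fun x hx => hi ▸ IsMap.apply_mem_img hx
  have hf₁ : IsMap F R (autFun η ∘ f₀) := hf₀.comp ((isMap_autFun hQS).mpr hη.1) hmem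
  have hi₁ : img R (autFun η ∘ f₀) = Q := by
    subst hi
    rw [img_comp hf₀ ((isMap_autFun hQS).mpr hη.1), img_autFun]
  have hle : normalizerIn S R ≤ extSub S R (autFun η ∘ f₀) := by
    intro g hg
    obtain ⟨h, hh, eh⟩ := mem_autInducedBy.mp (hηK (e ⟨g, hg⟩) ⟨⟨g, hg⟩, rfl⟩)
    refine ⟨hg.1, hg.2, h, hh, fun x hx => ?_⟩
    show autFun η (f₀ (g * x * g⁻¹)) = h * autFun η (f₀ x) * h⁻¹
    rw [← hespec g hg x hx, ← eh ⟨autFun η (f₀ x), autFun_mem η (hmem x hx)⟩,
      ← autFun_apply (η * e ⟨g, hg⟩ * η⁻¹) ⟨_, autFun_mem η (hmem x hx)⟩,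
      ← autFun_mul η _ (hmem x hx), ← autFun_mul _ η (hmem x hx), inv_mul_cancel_right]
  obtain ⟨f, hf, hag⟩ := receptive_extend hrec hf₁ hi₁
  exact ⟨η, hη, f, hf.mono hle, hag⟩

/-- A map of `F` on a centric `R` which is a map of `E` on `X` is a map of `E`. -/
theorem restrict [Finite S] [Fact p.Prime] (hS : IsPGroup p S) (hF : F.IsSaturated p)
    (hE : E.IsSaturated p) (hle : ∀ (P : Subgroup Ω) (f : Ω → Ω), IsMap E P f → IsMap F P f)
    {R X : Subgroup Ω} (hRc : F.IsCentric R) (hX : X ≤ R)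
    (hXn : normalizerIn S R ≤ Subgroup.normalizer (X : Set Ω))
    (hCX : ∀ r ∈ R, (∀ x ∈ X, r * x * r⁻¹ = x) → r ∈ X)
    (hIH : ∀ (T : Subgroup Ω) (f : Ω → Ω), Nat.card R < Nat.card T → IsMap F T f → IsMap E T f)
    {d : Ω → Ω} (hd : IsMap F R d)
    (hXn₁ : normalizerIn S (img R d) ≤ Subgroup.normalizer ((img X d : Subgroup Ω) : Set Ω))
    (htop : R = S → img X d = X) (hdX : IsMap E X d) : IsMap E R d := by
  have hR := hRc.1
  haveI := finite_of_le hR
  haveI := finite_of_le (hX.trans hR)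
  rcases hR.eq_or_lt with rfl | hlt
  · -- the top
    have hn : normalizerIn R R = R := le_antisymm inf_le_left (le_normalizerIn le_rfl)
    have hsn : F.IsFullyNormalized R := ⟨le_rfl, fun Q _ => by
      rw [hn]; exact Subgroup.card_le_of_le inf_le_left⟩
    obtain ⟨-, hfa, hrec⟩ := fullyNormalized_props hS hF hsn
    have hi : img R d = R := Subgroup.eq_of_le_of_card_ge hd.img_le hd.card_img.ge
    obtain ⟨a, ha, hae⟩ := hd.exists_aut hi
    have hXd := htop rfl
    have haS : a ∈ stabAut F R X X hX hX := by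
      have h : ∀ x ∈ X, autFun a x ∈ X := fun x hx => by
        rw [hae x (hX hx)]; exact hXd ▸ IsMap.apply_mem_img hx
      exact ⟨ha, h, h⟩
    refine (core hS hE hle hX hRc hrec (fun r hr => hXn (hn.ge hr)) hCX ?_ hIH haS
      (hdX.congr fun x hx => hae x (hX hx))).congr fun r hr => (hae r hr).symm
    intro U hU hUle
    refine ⟨1, Subgroup.one_mem _, fun u hu => ?_⟩
    rw [one_mul, inv_one, mul_one]
    obtain ⟨χ, -, hK⟩ := exists_conj_into_autS hfa hU (fun β hβ => (hUle hβ).1)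
    obtain ⟨g, hg, eg⟩ := mem_autInducedBy.mp (hK u hu)
    have hI : χ * u * χ⁻¹ ∈ Inn R :=
      ⟨⟨g, hg⟩, MulEquiv.ext fun x => Subtype.ext (eg x).symm⟩
    have := conj_mem_inn hI χ⁻¹
    exact inn_le_autInducedBy le_rfl (by simpa [mul_assoc] using this)
  · obtain ⟨Rs, hRRs, hRs⟩ := exists_fullyNormalized (F := F) hR
    obtain ⟨-, hfa, hrec⟩ := fullyNormalized_props hS hF hRs
    obtain ⟨c₀, hc₀, hc₀i⟩ := isConj_iff.mp hRRs
    obtain ⟨c, hc, hci, hpos⟩ := exists_sylow_position hX hX hc₀ hc₀i hfa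
    haveI := finite_of_le hRs.1
    set Xs := img X c with hXs
    have hXsR : Xs ≤ Rs := hci ▸ img_mono hX c
    haveI : Finite Xs := finite_of_le (hXsR.trans hRs.1)
    have hpl : Placed F p Rs Xs hXsR := fun U hU hUle => by
      obtain ⟨η, hη, h⟩ := hpos hXsR hXsR U hU hUle
      exact ⟨η, hη, fun u hu => mem_autInducedBy.mpr (h u hu)⟩
    have hbig : Nat.card R < Nat.card (normalizerIn S R) := by
      haveI : Finite (normalizerIn S R) := finite_of_le inf_le_left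
      exact lt_of_le_of_ne (Subgroup.card_le_of_le (le_normalizerIn hR)) fun h =>
        (lt_normalizerIn hS hlt).ne (Subgroup.eq_of_le_of_card_ge (le_normalizerIn hR) h.ge)
    -- the first correction
    obtain ⟨η, hη, f, hf, hfe⟩ := exists_corrected hS hXsR hrec hpl hX hXn hc hci hXs.symm
    have hfE : IsMap E R f := (hIH _ _ hbig hf).mono (le_normalizerIn hR)
    have hfi : img R f = Rs := by
      refine Subgroup.eq_of_le_of_card_ge (IsMap.img_le_iff.mpr fun x hx => ?_) ?_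
      · rw [hfe x hx]; exact autFun_mem η (hci ▸ IsMap.apply_mem_img hx)
      · rw [hfE.card_img, ← hci, hc.card_img]
    have hfX : img X f = Xs := by
      refine Subgroup.eq_of_le_of_card_ge (IsMap.img_le_iff.mpr fun x hx => ?_) ?_
      · rw [hfe x (hX hx)]; exact hη.2.1 _ (IsMap.apply_mem_img hx)
      · rw [(hfE.mono hX).card_img, hXs, (hc.mono hX).card_img]
    -- the second correction
    set R' := img R d with hR'
    haveI := finite_of_le (hd.img_le : R' ≤ S)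
    obtain ⟨d', hd', hd'i, hd'l, hd'r⟩ := hd.exists_inv
    have hbig' : Nat.card R < Nat.card (normalizerIn S R') := by
      have hlt' : R' < S := lt_of_le_of_ne hd.img_le fun h => hlt.ne
        (Subgroup.eq_of_le_of_card_ge hR (by rw [← hd.card_img, ← hR', h]))
      haveI : Finite (normalizerIn S R') := finite_of_le inf_le_left
      rw [← hd.card_img]
      exact lt_of_le_of_ne (Subgroup.card_le_of_le (le_normalizerIn hd.img_le)) fun h =>
        (lt_normalizerIn hS hlt').ne (Subgroup.eq_of_le_of_card_ge (le_normalizerIn hd.img_le) h.ge)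
    have hd'mem : ∀ y ∈ R', d' y ∈ R := fun y hy => hd'i ▸ IsMap.apply_mem_img hy
    have hcd : IsMap F R' (f ∘ d') := hd'.comp (hle _ _ hfE) hd'mem
    have hXd : img X d ≤ R' := img_mono hX d
    haveI := finite_of_le (hXd.trans hd.img_le)
    have hcdi : img R' (f ∘ d') = Rs := by
      refine Subgroup.eq_of_le_of_card_ge (IsMap.img_le_iff.mpr fun y hy =>
        hfi ▸ IsMap.apply_mem_img (hd'mem y hy)) ?_
      rw [hcd.card_img, hR', hd.card_img, ← hfi, hfE.card_img]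
    have hcdX : img (img X d) (f ∘ d') = Xs := by
      haveI := finite_of_le (hXsR.trans hRs.1)
      refine Subgroup.eq_of_le_of_card_ge (IsMap.img_le_iff.mpr fun y hy => ?_) ?_
      · obtain ⟨x, hx, rfl⟩ := (hd.mono hX).mem_img.mp hy
        show f (d' (d x)) ∈ Xs
        rw [hd'l x (hX hx), ← hfX]
        exact IsMap.apply_mem_img hx
      · rw [(hcd.mono hXd).card_img, (hd.mono hX).card_img, ← hfX, (hfE.mono hX).card_img]
    obtain ⟨θ, hθ, g, hg, hge⟩ := exists_corrected hS hXsR hrec hpl hXd hXn₁ hcd hcdi hcdX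
    have hgE : IsMap E R' g := (hIH _ _ hbig' hg).mono (le_normalizerIn hd.img_le)
    -- `θ = g d f⁻¹`
    obtain ⟨f', hf', hf'i, hf'l, hf'r⟩ := hfE.exists_inv
    rw [hfi] at hf' hf'i hf'r
    have hθe : ∀ y ∈ Rs, g (d (f' y)) = autFun θ y := fun y hy => by
      have hx : f' y ∈ R := hf'i ▸ IsMap.apply_mem_img hy
      rw [hge _ (IsMap.apply_mem_img hx)]
      show autFun θ (f (d' (d (f' y)))) = _
      rw [hd'l _ hx, hf'r y hy]
    have hf'X : ∀ y ∈ Xs, f' y ∈ X := fun y hy => by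
      obtain ⟨x, hx, rfl⟩ := (hfE.mono hX).mem_img.mp (hfX.symm ▸ hy)
      rwa [hf'l x (hX hx)]
    have hθX : IsMap E Xs (autFun θ) :=
      (((hf'.mono hXsR).comp hdX hf'X).comp (hgE.mono hXd)
        fun y hy => IsMap.apply_mem_img (hf'X y hy)).congr fun y hy => (hθe y (hXsR hy)).symm
    have hcS : F.IsCentric Rs := ⟨hRs.1, fun Q hQ => hRc.2 Q (isConj_trans hRRs hQ)⟩
    have hXsn : Rs ≤ Subgroup.normalizer (Xs : Set Ω) := fun y hy => by
      haveI := finite_of_le (hXsR.trans hRs.1)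
      refine mem_normalizer_of_maps_finite fun z hz => ?_
      obtain ⟨r, hr, rfl⟩ := hfE.mem_img.mp (hfi.symm ▸ hy)
      obtain ⟨x, hx, rfl⟩ := (hfE.mono hX).mem_img.mp (hfX.symm ▸ hz)
      rw [← hfE.map_conj hr (hX hx), ← hfX]
      exact IsMap.apply_mem_img (conj_mem_of_mem_normalizer (hXn (le_normalizerIn hR hr)) hx)
    have hCXs : ∀ y ∈ Rs, (∀ z ∈ Xs, y * z * y⁻¹ = z) → y ∈ Xs := fun y hy h => by
      obtain ⟨r, hr, rfl⟩ := hfE.mem_img.mp (hfi.symm ▸ hy)
      rw [← hfX]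
      refine IsMap.apply_mem_img (hCX r hr fun x hx => hfE.injOn
        (R.mul_mem (R.mul_mem hr (hX hx)) (R.inv_mem hr)) (hX hx) ?_)
      rw [hfE.map_conj hr (hX hx)]
      exact h _ (hfX ▸ IsMap.apply_mem_img hx)
    have hcard : Nat.card Rs = Nat.card R := by rw [← hfi, hfE.card_img]
    have hθE := core hS hE hle hXsR hcS hrec hXsn hCXs hpl
      (fun T t hT ht => hIH T t (hcard ▸ hT) ht) hθ hθX
    obtain ⟨g', hg', -, hg'l, -⟩ := hgE.exists_inv
    have hfmem : ∀ r ∈ R, f r ∈ Rs := fun r hr => hfi ▸ IsMap.apply_mem_img hr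
    have hθmem : ∀ r ∈ R, autFun θ (f r) ∈ img R' g := fun r hr => by
      rw [← hθe _ (hfmem r hr), hf'l r hr]
      exact IsMap.apply_mem_img (IsMap.apply_mem_img hr)
    refine ((hfE.comp hθE hfmem).comp hg' hθmem).congr fun r hr => ?_
    show d r = g' (autFun θ (f r))
    rw [← hθe _ (hfmem r hr), hf'l r hr, hg'l _ (IsMap.apply_mem_img hr)]

end Cfsg.Lib.Fusion.Small
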