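import Cfsg.Agent.SolvStruct.AlperinClassical

/-!
Alperin's lemma on a maximal normal abelian subgroup of bounded exponent, relative to a normal
subgroup containing it.
-/

set_option linter.style.haveILetI false
set_option linter.unusedSectionVars false
set_option linter.unusedVariables false

namespace Cfsg.Lib.SolvStruct.Alperin

open Subgroup Cfsg.Lib.Transfer
open scoped Pointwise commutatorElement

variable {G : Type*} [Group G] [Finite G] {p : ℕ} [hp : Fact p.Prime]

/-- Alperin's lemma: a maximal normal abelian subgroup of bounded exponent inside a normal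
subgroup `Y`. -/
theorem mem_of_maximal_abelian_exponent_inside (hG : IsPGroup p G) (n : ℕ) (hn : p ^ n ≠ 2)
    (A : Subgroup G) [A.Normal] (hA : IsMulCommutative A) (hAe : ∀ a ∈ A, a ^ p ^ n = 1)
    (Y : Subgroup G) [Y.Normal] (hAY : A ≤ Y)
    (hmax : ∀ B : Subgroup G, B.Normal → IsMulCommutative B → (∀ b ∈ B, b ^ p ^ n = 1) → A ≤ B → B ≤ Y →
      B = A)
    (x : G) (hxY : x ∈ Y) (hx : x ∈ centralizer (A : Set G)) (hxn : x ^ p ^ n = 1) : x ∈ A := by
  classical
  haveI := hG.isNilpotent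
  rcases Nat.eq_zero_or_pos n with rfl | hn0
  · rw [pow_zero, pow_one] at hxn
    exact hxn ▸ one_mem A
  by_contra hxA
  -- an element of order `p` modulo `A`
  let X : Set G := {z | z ∈ centralizer (A : Set G) ∧ z ^ p ^ n = 1 ∧ z ^ p ∈ A ∧ z ∉ A ∧ z ∈ Y}
  have hne : X.Nonempty := by
    have hex : ∃ k, x ^ p ^ k ∈ A := ⟨n, hxn ▸ one_mem A⟩
    have hk0 : Nat.find hex ≠ 0 := fun e => hxA (by
      have := Nat.find_spec hex; rwa [e, pow_zero, pow_one] at this)
    refine ⟨x ^ p ^ (Nat.find hex - 1), pow_mem hx _, ?_, ?_, Nat.find_min hex (by omega), pow_mem hxY _⟩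
    · rw [← pow_mul, mul_comm, pow_mul, hxn, one_pow]
    · rw [← pow_mul, ← pow_succ, Nat.sub_add_cancel (Nat.pos_of_ne_zero hk0)]
      exact Nat.find_spec hex
  let D : G → Subgroup G := fun z => A ⊔ normalClosure {z}
  obtain ⟨z, hz, hmin⟩ := (InvImage.wf D (IsWellFounded.wf : WellFounded (α := Subgroup G) (· < ·))).has_min X hne
  obtain ⟨hzC, hzn, hzp, hzA, hzY⟩ := hz
  let E : Subgroup G := A ⊔ ⁅D z, (⊤ : Subgroup G)⁆
  have hDn : (D z).Normal := Subgroup.sup_normal _ _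
  haveI hEn : E.Normal := Subgroup.sup_normal _ _
  have hzD : z ∈ D z := le_sup_right (a := A) (subset_normalClosure rfl)
  have hED : E < D z := by
    refine (sup_le le_sup_left (commutator_le_left _ _)).lt_of_ne fun e => hzA ?_
    have hlcs : ∀ k, D z ≤ A ⊔ Subgroup.lowerCentralSeries (⊤ : Subgroup G) k := by
      intro k
      induction k with
      | zero => simp
      | succ k ihk =>
        calc D z = A ⊔ ⁅D z, (⊤ : Subgroup G)⁆ := e.symm
          _ ≤ A ⊔ ⁅A ⊔ Subgroup.lowerCentralSeries (⊤ : Subgroup G) k, (⊤ : Subgroup G)⁆ :=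
            sup_le_sup_left (commutator_mono ihk le_rfl) _
          _ ≤ _ := by
            refine sup_le le_sup_left ?_
            rw [commutator_le]
            intro a ha g _
            obtain ⟨u, hu, w, hw, rfl⟩ := mem_sup_of_normal_left.1 ha
            rw [show ⁅u * w, g⁆ = u * ⁅w, g⁆ * u⁻¹ * ⁅u, g⁆ by simp only [commutatorElement_def]; group]
            refine mul_mem (mul_mem (mul_mem (mem_sup_left hu) (mem_sup_right ?_)) (inv_mem (mem_sup_left hu)))
              (mem_sup_left ?_)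
            · rw [Subgroup.lowerCentralSeries_succ]
              exact commutator_mem_commutator hw (mem_top _)
            · rw [commutatorElement_def, mul_assoc u g, mul_assoc u]
              exact mul_mem hu (‹A.Normal›.conj_mem _ (inv_mem hu) g)
    obtain ⟨k, hk⟩ := (Subgroup.isNilpotent_iff_lowerCentralSeries (⊤ : Subgroup G)).1 (hG.to_subgroup ⊤).isNilpotent
    have hk' : Subgroup.lowerCentralSeries (⊤ : Subgroup G) k = ⊥ := hk
    have := (hlcs k) hzD
    rwa [hk', sup_bot_eq] at this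
  have hnoE : ∀ w ∈ X, w ∉ E := fun w hw hwE =>
    hmin w hw ((sup_le le_sup_left (normalClosure_le_normal (Set.singleton_subset_iff.2 hwE))).trans_lt hED)
  -- `L = A⟨z⟩` is abelian of exponent dividing `p ^ n`
  let L : Subgroup G := A ⊔ zpowers z
  have hLsplit : ∀ w ∈ L, ∃ a ∈ A, ∃ k : ℤ, a * z ^ k = w := fun w hw => by
    obtain ⟨a, ha, b, hb, rfl⟩ := mem_sup_of_normal_left.1 hw
    obtain ⟨k, rfl⟩ := mem_zpowers_iff.1 hb
    exact ⟨a, ha, k, rfl⟩
  have hzk : ∀ a ∈ A, ∀ k : ℤ, Commute a (z ^ k) := fun a ha k =>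
    (show Commute a z from hzC a ha).zpow_right k
  have hLc : IsMulCommutative L := by
    refine ⟨⟨fun u v => Subtype.ext ?_⟩⟩
    obtain ⟨a, ha, i, hi⟩ := hLsplit u u.2
    obtain ⟨b, hb, j, hj⟩ := hLsplit v v.2
    show (u : G) * v = v * u
    rw [← hi, ← hj]
    exact Commute.mul_left
      (Commute.mul_right (congrArg Subtype.val (mul_comm' (⟨a, ha⟩ : A) ⟨b, hb⟩)) (hzk a ha j))
      (Commute.mul_right (hzk b hb i).symm ((Commute.refl z).zpow_zpow i j))
  have hLe : ∀ w ∈ L, w ^ p ^ n = 1 := fun w hw => by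
    obtain ⟨a, ha, k, rfl⟩ := hLsplit w hw
    rw [(hzk a ha k).mul_pow, hAe a ha, one_mul, ← zpow_natCast, ← zpow_mul, mul_comm, zpow_mul,
      zpow_natCast, hzn, one_zpow]
  have hzL : z ∈ L := mem_sup_right (mem_zpowers z)
  have hLnn : ¬ L.Normal := fun hL => hzA ((hmax L hL hLc hLe le_sup_left (sup_le hAY ((zpowers_le).2 hzY))) ▸ hzL)
  have hlt : normalizer (L : Set G) < ⊤ := lt_top_iff_ne_top.2 fun e => hLnn (normalizer_eq_top_iff.1 e)
  obtain ⟨g, hg, hgN⟩ := SetLike.exists_of_lt (normalizerCondition_of_isNilpotent _ hlt)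
  set y := g * z * g⁻¹
  have hyN : y ∈ normalizer (L : Set G) := (mem_normalizer_iff.1 hg z).1 (le_normalizer hzL)
  have hzN' : g⁻¹ * z * g ∈ normalizer (L : Set G) := by
    have := (mem_normalizer_iff.1 (inv_mem hg) z).1 (le_normalizer hzL)
    simpa using this
  have hyC : y ∈ centralizer (A : Set G) := fun a ha => by
    have h1 := hzC _ (‹A.Normal›.conj_mem a ha g⁻¹)
    calc a * y = g * (g⁻¹ * a * g⁻¹⁻¹ * z) * g⁻¹ := by simp only [y]; group
      _ = g * (z * (g⁻¹ * a * g⁻¹⁻¹)) * g⁻¹ := by rw [h1]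
      _ = y * a := by simp only [y]; group
  have hyp : y ^ p ∈ A := by
    rw [conj_pow]; exact ‹A.Normal›.conj_mem _ hzp g
  have hyn : y ^ p ^ n = 1 := by rw [conj_pow, hzn]; group
  -- `⁅y, z⁆ ∈ L ∩ L^g = A`
  set c := ⁅z, y⁆ with hc
  have hcL : c ∈ L := by
    rw [hc, commutatorElement_def, mul_assoc z y, mul_assoc z]
    exact mul_mem hzL ((mem_normalizer_iff.1 hyN _).1 (inv_mem hzL))
  have hcL' : g⁻¹ * c * g ∈ L := by
    rw [show g⁻¹ * c * g = (g⁻¹ * z * g) * z * (g⁻¹ * z * g)⁻¹ * z⁻¹ by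
      simp only [hc, commutatorElement_def, y]; group]
    exact mul_mem ((mem_normalizer_iff.1 hzN' _).1 hzL) (inv_mem hzL)
  have hyL : y ∉ L := by
    intro hyL
    refine hgN (mem_normalizer_iff_map_conj_eq.2 ?_)
    refine eq_of_le_of_card_ge ?_ (card_map_conj L g).ge
    rw [Subgroup.map_sup, MonoidHom.map_zpowers]
    refine sup_le (fun w hw => ?_) ((zpowers_le).2 ?_)
    · obtain ⟨a, ha, rfl⟩ := mem_map.1 hw
      exact mem_sup_left (by simpa using ‹A.Normal›.conj_mem _ ha g)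
    · simpa using hyL
  have hcA : c ∈ A := by
    obtain ⟨a, ha, k, hk⟩ := hLsplit c hcL
    by_cases hkp : (p : ℤ) ∣ k
    · obtain ⟨j, rfl⟩ := hkp
      rw [← hk, zpow_mul, zpow_natCast]
      exact mul_mem ha (zpow_mem hzp j)
    exfalso
    apply hyL
    obtain ⟨u, v, huv⟩ := ((Nat.prime_iff_prime_int.1 hp.out).coprime_iff_not_dvd.2 hkp).symm
    -- `z ∈ A⟨c⟩`, so `y = g z g⁻¹ ∈ L`
    have hzk' : z ^ k = a⁻¹ * c := by rw [← hk, inv_mul_cancel_left]
    have hgc : g * (g⁻¹ * c * g) * g⁻¹ = c := by group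
    obtain ⟨b, hb, l, hl⟩ := hLsplit _ hcL'
    have hlp : ¬ (p : ℤ) ∣ l := by
      rintro ⟨j, rfl⟩
      have h1 : g⁻¹ * c * g ∈ A := by
        rw [← hl, zpow_mul, zpow_natCast]; exact mul_mem hb (zpow_mem hzp j)
      have h2 := ‹A.Normal›.conj_mem _ h1 g
      rw [hgc] at h2
      refine hzA ?_
      have h3 : z = (z ^ k) ^ u * (z ^ p) ^ v := by
        rw [← zpow_natCast z p, ← zpow_mul, ← zpow_mul, ← zpow_add,
          show k * u + (p : ℤ) * v = 1 by linarith, zpow_one]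
      rw [h3, hzk']
      exact mul_mem (zpow_mem (mul_mem (inv_mem ha) h2) u) (zpow_mem hzp v)
    obtain ⟨u', v', huv'⟩ := ((Nat.prime_iff_prime_int.1 hp.out).coprime_iff_not_dvd.2 hlp).symm
    have h3 : y = (g * z ^ l * g⁻¹) ^ u' * (y ^ p) ^ v' := by
      rw [← conj_zpow, ← zpow_natCast y p, ← zpow_mul, ← zpow_mul, ← zpow_add,
        show l * u' + (p : ℤ) * v' = 1 by linarith, zpow_one]
    rw [h3]
    refine mul_mem (zpow_mem ?_ u') (zpow_mem (mem_sup_left hyp) v')
    rw [show g * z ^ l * g⁻¹ = (g * b * g⁻¹)⁻¹ * c by rw [← hgc, ← hl]; group]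
    exact mul_mem (inv_mem (mem_sup_left (‹A.Normal›.conj_mem b hb g))) hcL
  -- `w = z⁻¹ y` has `w ^ p ∈ A` and `w ^ p ^ n = 1`
  have hcz : Commute c z := hzC c hcA
  have hcy : Commute c y := hyC c hcA
  have hcw : ⁅y, z⁻¹⁆ = c := by
    rw [show ⁅y, z⁻¹⁆ = z⁻¹ * c * z by simp only [hc, commutatorElement_def]; group, mul_assoc,
      hcz.eq, inv_mul_cancel_left]
  have hpow : ∀ k : ℕ, (z⁻¹ * y) ^ k = (z ^ k)⁻¹ * y ^ k * c ^ k.choose 2 := fun k => by
    rw [Cfsg.Lib.PGroups.mul_pow_of_commute_commutator (by rw [hcw]; exact hcz.inv_right)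
      (by rw [hcw]; exact hcy) k, hcw, inv_pow]
  have hcp : c ^ p = 1 := by
    rw [hc, ← Cfsg.Lib.PGroups.commutator_pow_left_of_commute hcz p,
      commutatorElement_eq_one_iff_mul_comm]
    exact hyC _ hzp
  have hwA : z⁻¹ * y ∈ A := by
    by_contra hwA
    refine hnoE (z⁻¹ * y) ⟨mul_mem (inv_mem hzC) hyC, ?_, ?_, hwA, mul_mem (inv_mem hzY) (‹Y.Normal›.conj_mem z hzY g)⟩ ?_
    · obtain ⟨j, hj⟩ : p ∣ (p ^ n).choose 2 := hp.out.dvd_choose_pow two_ne_zero fun e => hn e.symm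
      rw [hpow, hzn, hyn, hj, pow_mul, hcp, one_pow, inv_one, one_mul, one_mul]
    · rw [hpow]
      exact mul_mem (mul_mem (inv_mem hzp) hyp) (pow_mem hcA _)
    · rw [show z⁻¹ * y = ⁅z⁻¹, g⁆ by simp only [y, commutatorElement_def]; group]
      exact mem_sup_right (commutator_mem_commutator (inv_mem hzD) (mem_top g))
  refine hyL ?_
  have := mul_mem hzL (mem_sup_left hwA : z⁻¹ * y ∈ L)
  rwa [mul_inv_cancel_left] at this

end Cfsg.Lib.SolvStruct.Alperin
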