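import Cfsg.Agent.Fusion.Small.Restriction
import Cfsg.Agent.Fusion.Small.AlperinInside
import Cfsg.Agent.Fusion.SmallCriteria
import Cfsg.Agent.Fusion.CentralizerSaturated
import Cfsg.Agent.Fusion.GTSubsystem

/-!
The abelian subgroups of small exponent of the hyperfocal subgroup control fusion.
-/

set_option autoImplicit false
set_option linter.style.haveILetI false

namespace Cfsg.Lib.Fusion.Small

open Cfsg Cfsg.FusionSystem Cfsg.Lib.Fusion

universe u

variable {Ω : Type u} [Group Ω] {S : Subgroup Ω} {E F : FusionSystem S} {p : ℕ}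

/-- `p` for odd `p`, and `4` for `p = 2`. -/
def smallExp (p : ℕ) : ℕ := p ^ (if p = 2 then 2 else 1)

theorem smallExp_ne_two [Fact p.Prime] : smallExp p ≠ 2 := by
  unfold smallExp
  split_ifs with h
  · subst h; norm_num
  · simpa using h

theorem pow_smallExp_of_isSmall {x : Ω} (h : IsSmall p x) : x ^ smallExp p = 1 := by
  unfold smallExp
  split_ifs with h2
  · subst h2
    rcases h with h | ⟨-, h⟩
    · rw [pow_two, pow_mul, h, one_pow]
    · norm_num [h]
  · rcases h with h | ⟨h3, -⟩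
    · rwa [pow_one]
    · exact absurd h3 h2

/-- Abelian of exponent dividing `p`, respectively `4`. -/
def IsSmallAb (p : ℕ) (A : Subgroup Ω) : Prop :=
  (∀ a ∈ A, ∀ b ∈ A, a * b = b * a) ∧ ∀ a ∈ A, a ^ smallExp p = 1

theorem IsSmallAb.mono {A B : Subgroup Ω} (h : IsSmallAb p B) (hAB : A ≤ B) : IsSmallAb p A :=
  ⟨fun a ha b hb => h.1 a (hAB ha) b (hAB hb), fun a ha => h.2 a (hAB ha)⟩

theorem isSmallAb_sup {A B : Subgroup Ω} (hA : IsSmallAb p A) (hB : IsSmallAb p B)
    (hc : ∀ a ∈ A, ∀ b ∈ B, a * b = b * a) : IsSmallAb p (A ⊔ B) := by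
  have hn : A ≤ Subgroup.normalizer (B : Set Ω) := fun a ha => by
    refine Subgroup.mem_normalizer_iff.mpr fun z => ⟨fun hz => ?_, fun hz => ?_⟩
    · rwa [hc a ha z hz, mul_inv_cancel_right]
    · have h1 := hc a ha _ hz
      rw [inv_mul_cancel_right] at h1
      rwa [← mul_left_cancel h1]
  have hmem : ∀ x ∈ A ⊔ B, ∃ a ∈ A, ∃ b ∈ B, a * b = x := fun x hx => by
    have hx' : x ∈ ((A ⊔ B : Subgroup Ω) : Set Ω) := hx
    rw [Subgroup.coe_mul_of_left_le_normalizer_right A B hn] at hx'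
    exact hx'
  refine ⟨fun x hx y hy => ?_, fun x hx => ?_⟩
  · obtain ⟨a, ha, b, hb, rfl⟩ := hmem x hx
    obtain ⟨a', ha', b', hb', rfl⟩ := hmem y hy
    exact Commute.mul_left
      (Commute.mul_right (hA.1 a ha a' ha') (hc a ha b' hb'))
      (Commute.mul_right (hc a' ha' b hb).symm (hB.1 b hb b' hb'))
  · obtain ⟨a, ha, b, hb, rfl⟩ := hmem x hx
    rw [(show Commute a b from hc a ha b hb).mul_pow, hA.2 a ha, hB.2 b hb, one_mul]

theorem IsSmallAb.image {A : Subgroup Ω} (h : IsSmallAb p A) {f : Ω → Ω} (hf : IsMap F A f) :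
    IsSmallAb p (img A f) := by
  refine ⟨fun a ha b hb => ?_, fun a ha => ?_⟩
  · obtain ⟨x, hx, rfl⟩ := hf.mem_img.mp ha
    obtain ⟨y, hy, rfl⟩ := hf.mem_img.mp hb
    rw [← hf.map_mul hx hy, h.1 x hx y hy, hf.map_mul hy hx]
  · obtain ⟨x, hx, rfl⟩ := hf.mem_img.mp ha
    rw [← hf.map_pow hx, h.2 x hx, hf.map_one]

theorem hyperfocal_le_of_maps {T : Subgroup Ω} {C : FusionSystem T} (hTS : T ≤ S)
    (hle : ∀ (P : Subgroup Ω) (f : Ω → Ω), IsMap C P f → IsMap F P f) :
    C.hyperfocalSubgroup p ≤ F.hyperfocalSubgroup p := by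
  rw [FusionSystem.hyperfocalSubgroup, Subgroup.closure_le]
  rintro _ ⟨P, α, x, hP, hα, rfl⟩
  have hle' : C.autGroup P ≤ F.autGroup P := fun β hβ =>
    (isMap_autFun (hP.trans hTS)).mp (hle _ _ ((isMap_autFun hP).mpr hβ))
  exact Subgroup.subset_closure ⟨P, Subgroup.inclusion hle' α, x, hP.trans hTS,
    Cfsg.Lib.Transfer.pResidual_map_le (Subgroup.inclusion hle') ⟨α, hα, rfl⟩, rfl⟩

theorem mapCount_lt_of_eq [Finite S] {T : Subgroup Ω} {C : FusionSystem T} (hT : T = S)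
    (hle : ∀ (P : Subgroup Ω) (f : Ω → Ω), IsMap C P f → IsMap F P f) {P : Subgroup Ω} {f : Ω → Ω}
    (hf : IsMap F P f) (hnot : ¬ IsMap C P f) : mapCount C < mapCount F := by
  subst hT
  exact mapCount_lt hle hf hnot

/-- A centric radical subgroup contains the normal subgroups stabilizing a fixed central chain. -/
theorem le_radical_of_chain [Finite S] [Fact p.Prime] (hS : IsPGroup p S) {U Z : Subgroup Ω}
    (hUS : U ≤ S) (hn : S ≤ Subgroup.normalizer (U : Set Ω)) (hZ : Z ≤ F.center)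
    (hd : ∀ u ∈ U, ∀ s ∈ S, s * u * s⁻¹ * u⁻¹ ∈ Z) {P : Subgroup Ω} (hPc : F.IsCentric P)
    (hPr : F.IsRadical p P) : U ≤ P := by
  have hPS := hPc.1
  haveI := finite_of_le hPS
  have hZP : Z ≤ P := fun z hz => hPc.2 P (isConj_refl hPS) (mem_centralizerIn.mpr
    ⟨mem_S_of_center (hZ hz), fun x hx => by
      rw [← comm_of_center (hZ hz) x (hPS hx), mul_inv_cancel_right]⟩)
  refine le_of_radical hS hUS hn hPc hPr (chainAut F P Z hZP) ?_ (fun α hα => hα.1)
    (isPGroup_chainAut hS hZP hPS) ?_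
  · intro α hα β hβ
    have hfix : ∀ x ∈ Z, autFun α x ∈ Z := fun x hx => by
      rwa [apply_of_mem_center (hZ hx) ((isMap_autFun hPS).mpr hα) (hZP hx)]
    exact conj_chainAut hZP hPS ⟨hα, hfix, hfix⟩ hβ
  · intro g hg hgn
    refine ⟨autInducedBy_le hPS (conjAut_mem_autInducedBy hgn (hUS hg)), fun x hx => ?_,
      fun r hr => ?_⟩
    · rw [autFun_apply_mem _ (hZP hx), conjAut_apply hgn]
      show g * x * g⁻¹ = x
      rw [comm_of_center (hZ hx) g (hUS hg), mul_inv_cancel_right]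
    · rw [autFun_apply_mem _ hr, conjAut_apply hgn]
      show g * r * g⁻¹ * r⁻¹ ∈ Z
      have := Z.inv_mem (hd g hg r (hPS hr))
      convert this using 1
      group

/-- A non-central small abelian normal subgroup contains one whose commutators with `S` are
central. -/
theorem exists_next_layer [Finite S] [Fact p.Prime] (hS : IsPGroup p S) {U : Subgroup Ω}
    (hUS : U ≤ S) (hn : S ≤ Subgroup.normalizer (U : Set Ω))
    (hc : ∀ a ∈ U, ∀ b ∈ U, a * b = b * a) (hU : ¬ U ≤ F.center) :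
    ∃ V, V ≤ U ∧ S ≤ Subgroup.normalizer (V : Set Ω) ∧ ¬ V ≤ F.center ∧
      ∀ v ∈ V, ∀ s ∈ S, s * v * s⁻¹ * v⁻¹ ∈ U ⊓ F.center := by
  classical
  haveI := hS.isNilpotent
  obtain ⟨m, hm⟩ := Group.IsNilpotent.nilpotent (G := S)
  have hex : ∃ i, ¬ U ⊓ ucs S i ≤ F.center := ⟨m, fun h => hU fun x hx =>
    h ⟨hx, ⟨x, hUS hx⟩, hm.symm ▸ Subgroup.mem_top _, rfl⟩⟩
  obtain ⟨i, hi⟩ : ∃ i, Nat.find hex = i + 1 := by
    refine ⟨Nat.find hex - 1, ?_⟩
    have h0 : Nat.find hex ≠ 0 := fun e => Nat.find_spec hex (by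
      rintro x hx
      rw [e] at hx
      obtain ⟨y, hy, rfl⟩ := hx.2
      rw [Subgroup.upperCentralSeries_zero] at hy
      rw [Subgroup.mem_bot.mp hy]
      exact one_mem _)
    omega
  have hmin : U ⊓ ucs S i ≤ F.center := not_not.mp (Nat.find_min hex (by omega))
  have hspec := Nat.find_spec hex
  rw [hi] at hspec
  obtain ⟨x, hx, hxc⟩ := SetLike.not_le_iff_exists.mp hspec
  set Z₀ := U ⊓ F.center
  have hconj : ∀ s ∈ S, ∀ u ∈ U, s * u * s⁻¹ ∈ U := fun s hs u hu =>
    conj_mem_of_mem_normalizer (hn hs) hu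
  have hcomm : ∀ s ∈ S, ∀ u ∈ U, u ∈ ucs S (i + 1) → s * u * s⁻¹ * u⁻¹ ∈ Z₀ := by
    intro s hs u hu hi'
    have h1 : u⁻¹ * (s * u * s⁻¹) ∈ Z₀ :=
      ⟨U.mul_mem (U.inv_mem hu) (hconj s hs u hu),
        hmin ⟨U.mul_mem (U.inv_mem hu) (hconj s hs u hu), conj_diff_mem_ucs hs hi'⟩⟩
    rwa [hc (s * u * s⁻¹) (hconj s hs u hu) u⁻¹ (U.inv_mem hu)]
  let L : Subgroup Ω :=
    { carrier := {u | u ∈ U ∧ ∀ s ∈ S, s * u * s⁻¹ * u⁻¹ ∈ Z₀}
      one_mem' := ⟨U.one_mem, fun s hs => by simp⟩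
      mul_mem' := by
        rintro a b ⟨ha, ha'⟩ ⟨hb, hb'⟩
        refine ⟨U.mul_mem ha hb, fun s hs => ?_⟩
        have h1 := Z₀.mul_mem (ha' s hs) (hb' s hs)
        convert h1 using 1
        calc s * (a * b) * s⁻¹ * (a * b)⁻¹
            = (s * a * s⁻¹ * a⁻¹) * (a * (s * b * s⁻¹ * b⁻¹) * a⁻¹) := by group
          _ = _ := by rw [hc a ha _ (hb' s hs).1, mul_inv_cancel_right]
      inv_mem' := by
        rintro a ⟨ha, ha'⟩
        refine ⟨U.inv_mem ha, fun s hs => ?_⟩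
        have h1 := Z₀.inv_mem (ha' s hs)
        convert h1 using 1
        calc s * a⁻¹ * s⁻¹ * a⁻¹⁻¹ = a⁻¹ * (s * a * s⁻¹ * a⁻¹)⁻¹ * a := by group
          _ = _ := by
            rw [hc a⁻¹ (U.inv_mem ha) _ (U.inv_mem (ha' s hs).1), inv_mul_cancel_right] }
  have hxL : x ∈ L := ⟨hx.1, fun s hs => hcomm s hs x hx.1 hx.2⟩
  refine ⟨L, fun u hu => hu.1, fun s hs => ?_, fun h => hxc (h hxL), fun v hv => hv.2⟩
  haveI : Finite L := finite_of_le fun u hu => hUS hu.1
  refine mem_normalizer_of_maps_finite fun u hu => ⟨hconj s hs u hu.1, fun t ht => ?_⟩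
  have h1 := Z₀.mul_mem (hu.2 (t * s) (S.mul_mem ht hs)) (Z₀.inv_mem (hu.2 s hs))
  convert h1 using 1
  group

/-- The abelian subgroups of small exponent of the hyperfocal subgroup. -/
def Agree (E F : FusionSystem S) (p : ℕ) : Prop :=
  ∀ (A : Subgroup Ω) (f : Ω → Ω), A ≤ F.hyperfocalSubgroup p → IsSmallAb p A →
    IsMap F A f → IsMap E A f

theorem eq_of_agree_terminal [Finite S] [Fact p.Prime] (hS : IsPGroup p S) (hF : F.IsSaturated p)
    (hall : ∀ U : Subgroup Ω, U ≤ F.hyperfocalSubgroup p → S ≤ Subgroup.normalizer (U : Set Ω) →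
      IsSmallAb p U → U ≤ F.center) {P : Subgroup Ω} {f : Ω → Ω} (hf : IsMap F P f) :
    IsMap E P f := by
  set Y := F.hyperfocalSubgroup p
  have hYS : Y ≤ S := hyperfocalSubgroup_le F p
  have hfin : {U : Subgroup Ω | U ≤ Y ∧ S ≤ Subgroup.normalizer (U : Set Ω) ∧ IsSmallAb p U}.Finite :=
    finite_subgroups_le.subset fun U hU => hU.1.trans hYS
  obtain ⟨A, ⟨hAY, hAn, hAs⟩, hAmax⟩ := hfin.exists_maximal
    ⟨⊥, bot_le, fun s _ => by
      rw [Subgroup.mem_normalizer_iff]; intro h; simp,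
      ⟨fun a ha b hb => by rw [Subgroup.mem_bot.mp ha, Subgroup.mem_bot.mp hb],
        fun a ha => by rw [Subgroup.mem_bot.mp ha, one_pow]⟩⟩
  have hAc := hall A hAY hAn hAs
  -- the small elements of `Y` are central
  have hsmall : ∀ x ∈ Y, IsSmall p x → x ∈ F.center := by
    intro x hxY hxs
    haveI : (A.subgroupOf S).Normal := Subgroup.normal_subgroupOf_of_le_normalizer hAn
    haveI : (Y.subgroupOf S).Normal := Subgroup.normal_subgroupOf_of_le_normalizer fun s hs =>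
      normalizes_of_stronglyClosed (stronglyClosed_hyperfocal hS hF) hs
    refine hAc (Cfsg.Lib.SolvStruct.Alperin.mem_of_maximal_abelian_exponent_inside hS
      (if p = 2 then 2 else 1) smallExp_ne_two (A.subgroupOf S)
      ⟨⟨fun a b => Subtype.ext (Subtype.ext (hAs.1 _ a.2 _ b.2))⟩⟩
      (fun a ha => Subtype.ext (hAs.2 _ ha)) (Y.subgroupOf S) (Subgroup.comap_mono hAY)
      (fun B hBn hBc hBe hAB hBY => ?_) ⟨x, hYS hxY⟩ hxY ?_
      (Subtype.ext (pow_smallExp_of_isSmall hxs)) : (⟨x, hYS hxY⟩ : S) ∈ A.subgroupOf S)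
    · have h1 : A ≤ B.map S.subtype := fun a ha => ⟨⟨a, hYS (hAY ha)⟩, hAB ha, rfl⟩
      have h2 : B.map S.subtype ≤ A := hAmax ⟨?_, ?_, ?_⟩ h1
      · exact le_antisymm (fun b hb => h2 ⟨b, hb, rfl⟩) hAB
      · rintro _ ⟨b, hb, rfl⟩; exact hBY hb
      · intro s hs
        haveI : Finite (B.map S.subtype) := finite_of_le (Subgroup.map_subtype_le B)
        refine mem_normalizer_of_maps_finite ?_
        rintro _ ⟨b, hb, rfl⟩
        exact ⟨_, hBn.conj_mem b hb ⟨s, hs⟩, rfl⟩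
      · refine ⟨?_, ?_⟩
        · rintro _ ⟨a, ha, rfl⟩ _ ⟨b, hb, rfl⟩
          exact congrArg (fun z : B => ((z : S) : Ω)) (mul_comm' (⟨a, ha⟩ : B) ⟨b, hb⟩)
        · rintro _ ⟨a, ha, rfl⟩
          exact congrArg Subtype.val (hBe a ha)
    · exact fun a ha => Subtype.ext (comm_of_center (hAc ha) x (hYS hxY)).symm
  have haut : ∀ Q : Subgroup Ω, F.IsFullyNormalized Q → ∀ α ∈ F.autGroup Q,
      α ∈ autInducedBy S Q := by
    intro Q hQ α hα
    haveI := finite_of_le hQ.1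
    have hp : IsPGroup p (F.autGroup Q) := pPart_reduce hQ.1 fun β hβ hcop =>
      eq_one_of_fix_small hS hQ.1 hβ hcop fun x hx hs => Subtype.ext (by
        rw [← autFun_apply β x]
        exact apply_of_mem_center (hsmall _ hx hs) ((isMap_autFun hQ.1).mpr hβ) x.2)
    obtain ⟨χ, hχ, hK⟩ := exists_conj_into_autS (fullyNormalized_props hS hF hQ).2.1 hp le_rfl
    have := hK _ (Subgroup.mul_mem _ (Subgroup.mul_mem _ (Subgroup.inv_mem _ hχ) hα) hχ)
    simpa [mul_assoc] using this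
  have hconj : ∀ Q : Subgroup Ω, F.IsFullyNormalized Q → ∀ α ∈ F.autGroup Q,
      IsMap E Q (autFun α) := fun Q hQ α hα => by
    obtain ⟨g, hg, eg⟩ := mem_autInducedBy.mp (haut Q hQ α hα)
    exact (isMap_conj hQ.1 hg).congr fun x hx => (autFun_apply α ⟨x, hx⟩).trans (eg ⟨x, hx⟩)
  refine alperin_induction hS hF (isMapClass_isMap F E) (fun g hg => ?_)
    (fun Q _ hQn _ _ α hα => hconj Q hQn α hα) hf
  obtain ⟨α, hα, hαg⟩ := hg.exists_aut (Subgroup.eq_of_le_of_card_ge hg.img_le hg.card_img.ge)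
  exact (hconj S ⟨le_rfl, fun Q _ => by
    rw [show normalizerIn S S = S from le_antisymm inf_le_left (le_normalizerIn le_rfl)]
    exact Subgroup.card_le_of_le inf_le_left⟩ α hα).congr fun x hx => (hαg x hx).symm

/-- The inductive statement. -/
def Statement (Ω : Type u) [Group Ω] (p n m : ℕ) : Prop :=
  ∀ (T : Subgroup Ω) [Finite T] (C D : FusionSystem T), IsPGroup p T → C.IsSaturated p →
    D.IsSaturated p → (∀ (P : Subgroup Ω) (f : Ω → Ω), IsMap D P f → IsMap C P f) →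
    Agree D C p → Nat.card T = n → mapCount C = m →
    ∀ (P : Subgroup Ω) (f : Ω → Ω), IsMap C P f → IsMap D P f

theorem eq_of_agree_step [Finite S] [Fact p.Prime] (hS : IsPGroup p S) (hF : F.IsSaturated p)
    (hE : E.IsSaturated p) (hle : ∀ (P : Subgroup Ω) (f : Ω → Ω), IsMap E P f → IsMap F P f)
    (hag : Agree E F p)
    (ih : ∀ n m, (n < Nat.card S ∨ (n = Nat.card S ∧ m < mapCount F)) → Statement Ω p n m)
    {U : Subgroup Ω} (hUY : U ≤ F.hyperfocalSubgroup p) (hUn : S ≤ Subgroup.normalizer (U : Set Ω))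
    (hUs : IsSmallAb p U) (hUc : ¬ U ≤ F.center) {P : Subgroup Ω} {f : Ω → Ω}
    (hf : IsMap F P f) : IsMap E P f := by
  have hYS : F.hyperfocalSubgroup p ≤ S := hyperfocalSubgroup_le F p
  have hYc := stronglyClosed_hyperfocal hS hF
  obtain ⟨V, hVU, hVn, hVc, hVd⟩ := exists_next_layer hS (hUY.trans hYS) hUn hUs.1 hUc
  have hVY : V ≤ F.hyperfocalSubgroup p := hVU.trans hUY
  have hVS : V ≤ S := hVY.trans hYS
  have hVs := hUs.mono hVU
  haveI := finite_of_le hVS
  have hN : normalizerIn S V = S := le_antisymm inf_le_left (le_inf le_rfl hVn)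
  have hfnF : F.IsFullyNormalized V := ⟨hVS, fun Q _ => by
    rw [hN]; exact Subgroup.card_le_of_le inf_le_left⟩
  have hfnE : E.IsFullyNormalized V := ⟨hVS, fun Q _ => by
    rw [hN]; exact Subgroup.card_le_of_le inf_le_left⟩
  have hC : (centralizerSystem F hVS).IsSaturated p :=
    saturated_centralizer hS hF (fullyNormalized_props hS hF hfnF).1
      (isCentralizerSystem_centralizerSystem hVS)
  have hC' : (centralizerSystem E hVS).IsSaturated p :=
    saturated_centralizer hS hE (fullyNormalized_props hS hE hfnE).1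
      (isCentralizerSystem_centralizerSystem hVS)
  have hCi := fun {Q : Subgroup Ω} {g : Ω → Ω} => isMap_of_isCentralizerSystem (F := F)
    (isCentralizerSystem_centralizerSystem hVS) (P := Q) (f := g)
  have hCi' := fun {Q : Subgroup Ω} {g : Ω → Ω} => isMap_of_isCentralizerSystem (F := E)
    (isCentralizerSystem_centralizerSystem hVS) (P := Q) (f := g)
  haveI : Finite (centralizerIn S V) := finite_of_le inf_le_left
  have hTS : centralizerIn S V ≤ S := inf_le_left
  have hrecE := (fullyNormalized_props hS hE hfnE).2.2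
  -- the centralizer systems agree
  have hCmaps : ∀ (Q : Subgroup Ω) (g : Ω → Ω), IsMap (centralizerSystem E hVS) Q g →
      IsMap (centralizerSystem F hVS) Q g := by
    intro Q g hg
    obtain ⟨h1, h2, h3, k, hk, hkg, hkV⟩ := hCi'.mp hg
    exact hCi.mpr ⟨h1, h2, hle _ _ h3, k, hle _ _ hk, hkg, hkV⟩
  have hCle : ∀ (Q : Subgroup Ω) (g : Ω → Ω), IsMap (centralizerSystem F hVS) Q g → IsMap F Q g :=
    fun Q g hg => (hCi.mp hg).2.2.1
  have hCag : Agree (centralizerSystem E hVS) (centralizerSystem F hVS) p := by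
    intro A g hA hAs hg
    obtain ⟨h1, h2, h3, k, hk, hkg, hkV⟩ := hCi.mp hg
    have hAY : A ≤ F.hyperfocalSubgroup p := hA.trans (hyperfocal_le_of_maps hTS hCle)
    have hkE : IsMap E (A ⊔ V) k := hag _ k (sup_le hAY hVY)
      (isSmallAb_sup hAs hVs fun a ha v hv => by
        have h := (mem_centralizerIn.mp (h1 ha)).2 v hv
        exact mul_inv_eq_iff_eq_mul.mp h) hk
    exact hCi'.mpr ⟨h1, h2, (hkE.mono le_sup_left).congr fun x hx => (hkg x hx).symm, k, hkE,
      hkg, hkV⟩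
  have hlt : Nat.card (centralizerIn S V) < Nat.card S ∨
      (Nat.card (centralizerIn S V) = Nat.card S ∧
        mapCount (centralizerSystem F hVS) < mapCount F) := by
    rcases lt_or_eq_of_le (Subgroup.card_le_of_le hTS) with h | h
    · exact Or.inl h
    refine Or.inr ⟨h, ?_⟩
    have hT : centralizerIn S V = S := Subgroup.eq_of_le_of_card_ge hTS h.ge
    obtain ⟨Q, g, hg, hgC⟩ : ∃ Q g, IsMap F Q g ∧ ¬ IsMap (centralizerSystem F hVS) Q g := by
      by_contra hall
      push Not at hall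
      have hcen : F.IsCentral V := isCentral_iff.mpr ⟨hVS, fun Q g hg => by
        obtain ⟨-, -, -, k, hk, hkg, hkV⟩ := hCi.mp (hall Q g hg)
        exact ⟨k, hk, hkg, hkV⟩⟩
      exact hVc (le_sSup hcen)
    exact mapCount_lt_of_eq hT hCle hg hgC
  have hCE : ∀ (Q : Subgroup Ω) (g : Ω → Ω), IsMap (centralizerSystem F hVS) Q g → IsMap E Q g :=
    fun Q g hg => (hCi'.mp (ih _ _ hlt (centralizerIn S V) (centralizerSystem F hVS)
      (centralizerSystem E hVS) (hS.of_injective _ (Subgroup.inclusion_injective hTS)) hC hC'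
      hCmaps hCag rfl rfl Q g hg)).2.2.1
  -- the sites
  have site : ∀ Q : Subgroup Ω, F.IsCentric Q → V ≤ Q →
      (∀ (T : Subgroup Ω) (g : Ω → Ω), Nat.card Q < Nat.card T → IsMap F T g → IsMap E T g) →
      ∀ α ∈ F.autGroup Q, IsMap E Q (autFun α) := by
    intro Q hQc hVQ hIH α hα
    have hQ := hQc.1
    haveI := finite_of_le hQ
    have hm := (isMap_autFun hQ).mpr hα
    have hαE : IsMap E V (autFun α) := hag _ _ hVY hVs (hm.mono hVQ)
    obtain ⟨k₀, hk₀, hk₀i, hk₀l, -⟩ := hαE.exists_inv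
    obtain ⟨k, hk, hkag⟩ := receptive_extend hrecE hk₀ hk₀i
    have hQext : Q ≤ extSub S (img V (autFun α)) k₀ := by
      intro y hy
      have hy' : autFun α⁻¹ y ∈ Q := autFun_mem _ hy
      have key : ∀ v ∈ V, y * autFun α v * y⁻¹ =
          autFun α (autFun α⁻¹ y * v * (autFun α⁻¹ y)⁻¹) := fun v hv => by
        rw [hm.map_conj hy' (hVQ hv), autFun_inv_apply α hy]
      have hconjV : ∀ v ∈ V, autFun α⁻¹ y * v * (autFun α⁻¹ y)⁻¹ ∈ V := fun v hv =>
        conj_mem_of_mem_normalizer (hVn (hQ hy')) hv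
      haveI := finite_of_le (hαE.img_le)
      refine ⟨hQ hy, mem_normalizer_of_maps_finite fun w hw => ?_, autFun α⁻¹ y, hQ hy',
        fun w hw => ?_⟩
      · obtain ⟨v, hv, rfl⟩ := hαE.mem_img.mp hw
        rw [key v hv]
        exact IsMap.apply_mem_img (hconjV v hv)
      · obtain ⟨v, hv, rfl⟩ := hαE.mem_img.mp hw
        rw [key v hv, hk₀l _ (hconjV v hv), hk₀l v hv]
    have hkQ : IsMap E Q k := hk.mono hQext
    set d := k ∘ autFun α
    have hd : IsMap F Q d := hm.comp (hle _ _ hkQ) fun x hx => autFun_mem α hx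
    have hdV : ∀ v ∈ V, d v = v := fun v hv => by
      show k (autFun α v) = v
      rw [hkag _ (IsMap.apply_mem_img hv), hk₀l v hv]
    set X := Q ⊓ Subgroup.centralizer (V : Set Ω) with hX
    have hVX : V ≤ X := le_inf hVQ fun v hv => Subgroup.mem_centralizer_iff.mpr fun w hw =>
      hVs.1 w hw v hv
    have hdC : ∀ x ∈ Q, x ∈ Subgroup.centralizer (V : Set Ω) ↔
        d x ∈ Subgroup.centralizer (V : Set Ω) := by
      intro x hx
      simp only [Subgroup.mem_centralizer_iff, SetLike.mem_coe]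
      refine forall₂_congr fun v hv => ?_
      conv_rhs => rw [← hdV v hv, ← hd.map_mul (hVQ hv) hx, ← hd.map_mul hx (hVQ hv)]
      exact (hd.injOn.eq_iff (Q.mul_mem (hVQ hv) hx) (Q.mul_mem hx (hVQ hv))).symm
    have himgX : img X d = img Q d ⊓ Subgroup.centralizer (V : Set Ω) := by
      ext z
      rw [(hd.mono inf_le_left).mem_img]
      constructor
      · rintro ⟨x, hx, rfl⟩
        exact ⟨IsMap.apply_mem_img hx.1, (hdC x hx.1).mp hx.2⟩
      · rintro ⟨hz, hzc⟩
        obtain ⟨x, hx, rfl⟩ := hd.mem_img.mp hz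
        exact ⟨x, ⟨hx, (hdC x hx).mpr hzc⟩, rfl⟩
    have hnorm : ∀ R : Subgroup Ω, R ≤ S → normalizerIn S R ≤
        Subgroup.normalizer ((R ⊓ Subgroup.centralizer (V : Set Ω) : Subgroup Ω) : Set Ω) := by
      intro R hR s hs
      haveI : Finite ↥(R ⊓ Subgroup.centralizer (V : Set Ω)) := finite_of_le (inf_le_left.trans hR)
      refine mem_normalizer_of_maps_finite fun x hx =>
        ⟨conj_mem_of_mem_normalizer hs.2 hx.1, Subgroup.mem_centralizer_iff.mpr fun v hv => ?_⟩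
      have h1 : s⁻¹ * v * s ∈ V := by
        simpa using conj_mem_of_mem_normalizer (hVn (S.inv_mem hs.1)) hv
      have h2 := Subgroup.mem_centralizer_iff.mp hx.2 _ h1
      calc v * (s * x * s⁻¹) = s * (s⁻¹ * v * s * x) * s⁻¹ := by group
        _ = s * (x * (s⁻¹ * v * s)) * s⁻¹ := by rw [h2]
        _ = s * x * s⁻¹ * v := by group
    have hdE : IsMap E X d := by
      refine hCE X d (hCi.mpr ⟨fun x hx => ⟨hQ hx.1, hx.2⟩, fun x hx =>
        ⟨hd.mem_S hx.1, (hdC x hx.1).mp hx.2⟩, hd.mono inf_le_left, d,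
        hd.mono (sup_le inf_le_left hVQ), fun _ _ => rfl, hdV⟩)
    have hdEQ : IsMap E Q d := restrict hS hF hE hle hQc inf_le_left (hnorm Q hQ)
      (fun r hr h => ⟨hr, Subgroup.mem_centralizer_iff.mpr fun v hv => by
        exact (mul_inv_eq_iff_eq_mul.mp (h v (hVX hv))).symm⟩) hIH hd
      (himgX ▸ hnorm _ hd.img_le)
      (fun e => by
        subst e
        rw [himgX, show img Q d = Q from Subgroup.eq_of_le_of_card_ge hd.img_le hd.card_img.ge])
      hdE
    obtain ⟨k', hk', -, hk'l, -⟩ := hkQ.exists_inv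
    refine (hdEQ.comp hk' fun x hx => IsMap.apply_mem_img (autFun_mem α hx)).congr fun x hx => ?_
    show autFun α x = k' (k (autFun α x))
    rw [hk'l _ (autFun_mem α hx)]
  refine alperin_radical hS hF (isMapClass_isMap F E) (fun g hg => ?_)
    (fun Q _ _ hQc hQr hIH α hα => site Q hQc
      (le_radical_of_chain hS hVS hVn inf_le_right hVd hQc hQr) hIH α hα) hf
  obtain ⟨α, hα, hαg⟩ := hg.exists_aut (Subgroup.eq_of_le_of_card_ge hg.img_le hg.card_img.ge)
  refine (site S ⟨le_rfl, fun Q hQ => ?_⟩ hVS (fun T t hT ht => absurd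
    (Subgroup.card_le_of_le ht.le) hT.not_ge) α hα).congr fun x hx => (hαg x hx).symm
  have : Q = S := Subgroup.eq_of_le_of_card_ge (isConj_le hQ).2 (isConj_card hQ).ge
  exact this ▸ inf_le_left

theorem statement [Fact p.Prime] : ∀ n m, Statement Ω p n m := by
  intro n
  induction n using Nat.strong_induction_on with
  | _ n ihn =>
  intro m
  induction m using Nat.strong_induction_on with
  | _ m ihm =>
  intro T _ C D hT hC hD hle hag hn hm P f hf
  by_cases hall : ∀ U : Subgroup Ω, U ≤ C.hyperfocalSubgroup p →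
      T ≤ Subgroup.normalizer (U : Set Ω) → IsSmallAb p U → U ≤ C.center
  · exact eq_of_agree_terminal hT hC hall hf
  push Not at hall
  obtain ⟨U, hUY, hUn, hUs, hUc⟩ := hall
  refine eq_of_agree_step hT hC hD hle hag (fun n' m' h => ?_) hUY hUn hUs hUc hf
  rw [hn, hm] at h
  rcases h with h | ⟨rfl, h⟩
  · exact ihn n' h m'
  · exact ihm m' h

/-- Abelian subgroups of small exponent of the hyperfocal subgroup control fusion. -/
theorem eq_of_agree [Finite S] [Fact p.Prime] (hS : IsPGroup p S) (hF : F.IsSaturated p)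
    (hE : E.IsSaturated p) (hEF : E.IsSubsystemOf F) (hag : Agree E F p) (P : Subgroup Ω) :
    E.Hom P = F.Hom P := by
  refine hom_eq_iff_isMap.mpr fun f => ⟨fun hf => ?_, fun hf => ?_⟩
  · obtain ⟨φ, hφ, e⟩ := hf; exact ⟨φ, hEF P hφ, e⟩
  · exact statement _ _ S F E hS hF hE
      (fun Q g ⟨φ, hφ, e⟩ => ⟨φ, hEF Q hφ, e⟩) hag rfl rfl P f hf

theorem agree_of_homSet (hodd : p ≠ 2 → ∀ A B : Subgroup Ω, A ≤ F.hyperfocalSubgroup p →
      B ≤ F.hyperfocalSubgroup p → IsElementaryAbelian p A → IsElementaryAbelian p B →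
      E.homSet A B = F.homSet A B)
    (htwo : p = 2 → ∀ A B : Subgroup Ω, A ≤ F.hyperfocalSubgroup p → B ≤ F.hyperfocalSubgroup p →
      IsMulCommutative A → IsMulCommutative B → (∀ a ∈ A, a ^ 4 = 1) → (∀ b ∈ B, b ^ 4 = 1) →
      E.homSet A B = F.homSet A B)
    [Finite S] [Fact p.Prime] (hS : IsPGroup p S) (hF : F.IsSaturated p) : Agree E F p := by
  intro A f hA hAs hf
  obtain ⟨φ, hφ, e⟩ := id hf
  have hB : img A f ≤ F.hyperfocalSubgroup p := IsMap.img_le_iff.mpr fun x hx =>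
    stronglyClosed_apply (stronglyClosed_hyperfocal hS hF) hf hx (hA hx)
  have hBs := hAs.image hf
  have hmem : φ ∈ F.homSet A (img A f) := ⟨hφ, fun x => e x ▸ IsMap.apply_mem_img x.2⟩
  have hc : ∀ {C : Subgroup Ω}, IsSmallAb p C → IsMulCommutative C := fun h =>
    ⟨⟨fun a b => Subtype.ext (h.1 a a.2 b b.2)⟩⟩
  have hhom : E.homSet A (img A f) = F.homSet A (img A f) := by
    by_cases h2 : p = 2
    · have h4 : ∀ {C : Subgroup Ω}, IsSmallAb p C → ∀ a ∈ C, a ^ 4 = 1 := fun h a ha => by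
        simpa [smallExp, h2] using h.2 a ha
      exact htwo h2 A _ hA hB (hc hAs) (hc hBs) (h4 hAs) (h4 hBs)
    · have hp : ∀ {C : Subgroup Ω}, IsSmallAb p C → ∀ a ∈ C, a ^ p = 1 := fun h a ha => by
        simpa [smallExp, h2] using h.2 a ha
      exact hodd h2 A _ hA hB ⟨hc hAs, hp hAs⟩ ⟨hc hBs, hp hBs⟩
  rw [← hhom] at hmem
  exact ⟨φ, hmem.1, e⟩

end Cfsg.Lib.Fusion.Small
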