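import Cfsg.Agent.Fusion.SmallCriteria
import Cfsg.Agent.Fusion.CharAut
import Cfsg.Agent.SolvStruct.PGroupBasics
import Cfsg.Agent.PGroups.Basic
import Cfsg.Agent.S0121

/-!
If the fusion of the cyclic subgroups of order `p` or `4` of the hyperfocal subgroup is controlled
by the automorphisms of `S`, then `S` is normal in the system.
-/

set_option autoImplicit false
set_option linter.style.haveILetI false

namespace Cfsg.Lib.Fusion.Small

open Cfsg Cfsg.FusionSystem Cfsg.Lib.Fusion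
open scoped commutatorElement

universe u

/-- A characteristic subgroup of small elements detecting all automorphisms of order prime to `p`. -/
theorem exists_small_detect {p : ℕ} [Fact p.Prime] {W : Type u} [Group W] [Finite W]
    (hW : IsPGroup p W) :
    ∃ R : Subgroup W, R.Characteristic ∧ (∀ x ∈ R, x ^ p = 1 ∨ (p = 2 ∧ x ^ 4 = 1)) ∧
      ∀ a : MulAut W, (orderOf a).Coprime p → (∀ x ∈ R, a x = x) → a = 1 := by
  classical
  obtain ⟨C, hC, h1, h2, h3⟩ := Cfsg.Lib.SolvStruct.exists_critical hW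
  set n : ℕ := if p = 2 then 2 else 1 with hn
  have hn2 : p ^ n ≠ 2 := by
    rw [hn]
    split_ifs with h
    · subst h; norm_num
    · simpa using h
  have hzc : ∀ x ∈ C, ∀ y, ∀ z ∈ C, Commute ⁅x, y⁆ z := fun x hx y z hz =>
    ((Subgroup.mem_centralizer_iff.mp
      (h2 (Subgroup.commutator_mem_commutator hx (Subgroup.mem_top y))).2 z hz)).symm
  have hcp : ∀ x ∈ C, ∀ y ∈ C, ⁅y, x⁆ ^ p = 1 := by
    intro x hx y hy
    rw [← Cfsg.Lib.PGroups.commutator_pow_left_of_commute (hzc y hy x y hy) p,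
      commutatorElement_eq_one_iff_mul_comm]
    have hmem : y ^ p ∈ Subgroup.centralizer (C : Set W) := h1 ⟨(⟨y, hy⟩ : C) ^ p,
      Cfsg.Lib.PGroups.pow_mem_frattini (hW.to_subgroup C) _, rfl⟩
    exact (Subgroup.mem_centralizer_iff.mp hmem x hx).symm
  let R : Subgroup W :=
    { carrier := {x | x ∈ C ∧ x ^ p ^ n = 1}
      one_mem' := ⟨C.one_mem, one_pow _⟩
      mul_mem' := by
        rintro x y ⟨hx, hx'⟩ ⟨hy, hy'⟩
        refine ⟨C.mul_mem hx hy, ?_⟩
        obtain ⟨j, hj⟩ : p ∣ (p ^ n).choose 2 :=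
          (Fact.out : p.Prime).dvd_choose_pow two_ne_zero fun e => hn2 e.symm
        rw [Cfsg.Lib.PGroups.mul_pow_of_commute_commutator (hzc y hy x x hx) (hzc y hy x y hy),
          hx', hy', hj, pow_mul, hcp x hx y hy, one_pow, one_mul, one_mul]
      inv_mem' := fun {x} hx => ⟨C.inv_mem hx.1, by rw [inv_pow, hx.2, inv_one]⟩ }
  have hsmall : ∀ x ∈ R, x ^ p = 1 ∨ (p = 2 ∧ x ^ 4 = 1) := fun x hx => by
    by_cases h : p = 2
    · have h4 := hx.2
      rw [hn, if_pos h] at h4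
      exact Or.inr ⟨h, by simpa [h] using h4⟩
    · have h4 := hx.2
      rw [hn, if_neg h, pow_one] at h4
      exact Or.inl h4
  refine ⟨R, ?_, hsmall, fun a ha hfix => ?_⟩
  · refine Subgroup.characteristic_iff_comap_le.mpr fun φ x hx => ?_
    have hC' := Subgroup.characteristic_iff_comap_le.mp hC φ
    refine ⟨hC' hx.1, φ.injective ?_⟩
    rw [map_pow, map_one]
    exact hx.2
  · refine Cfsg.Agent.S0121.result hW C hC h1 h2 h3 a ha (fix_of_small hW C a ha (fun x hx => ?_) ?_)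
    · have := Subgroup.characteristic_iff_map_le.mp hC a
      exact this ⟨x, hx, rfl⟩
    · rintro x hx (h | ⟨h, h'⟩)
      · refine hfix x ⟨hx, ?_⟩
        rw [hn]
        split_ifs with h2
        · rw [pow_two, pow_mul, h, one_pow]
        · rwa [pow_one]
      · refine hfix x ⟨hx, ?_⟩
        rw [hn, if_pos h, h]
        exact h'

variable {Ω : Type u} [Group Ω] {S : Subgroup Ω} {F : FusionSystem S} {p : ℕ}

theorem img_zpowers_eq {x : Ω} {f : Ω → Ω} (hf : IsMap F (Subgroup.zpowers x) f) :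
    img (Subgroup.zpowers x) f = Subgroup.zpowers (f x) := by
  obtain ⟨φ, hφ, e⟩ := id hf
  refine le_antisymm (IsMap.img_le_iff.mpr ?_)
    (Subgroup.zpowers_le.mpr (IsMap.apply_mem_img (Subgroup.mem_zpowers x)))
  rintro _ ⟨k, rfl⟩
  refine ⟨k, ?_⟩
  show f x ^ k = f (x ^ k)
  rw [← e ⟨x, Subgroup.mem_zpowers x⟩, ← e ⟨x ^ k, ⟨k, rfl⟩⟩, ← map_zpow]
  rfl

theorem isNormal_top_of_small [Finite S] [Fact p.Prime] (hS : IsPGroup p S) (hF : F.IsSaturated p)
    (h : ∀ (x : Ω) (f : Ω → Ω), x ∈ F.hyperfocalSubgroup p → IsSmall p x →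
      IsMap F (Subgroup.zpowers x) f → ∃ k, IsMap F S k ∧ k x = f x) :
    F.IsNormal S := by
  set Y := F.hyperfocalSubgroup p
  have hYS : Y ≤ S := hyperfocalSubgroup_le F p
  have hYc := stronglyClosed_hyperfocal hS hF
  refine isNormal_of_le_radical hS hF
    (stronglyClosed_of_apply le_rfl fun P f hf x hx _ => hf.mem_S hx) fun P hPn hPc hPr => ?_
  have hP := hPn.1
  haveI := finite_of_le hP
  set Q := P ⊓ Y
  have hQP : Q ≤ P := inf_le_left
  haveI := finite_of_le (hQP.trans hP)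
  have hQp : IsPGroup p Q := hS.of_injective _ (Subgroup.inclusion_injective (hQP.trans hP))
  have hPp : IsPGroup p P := hS.of_injective _ (Subgroup.inclusion_injective hP)
  obtain ⟨R, hRc, hRs, hRd⟩ := exists_small_detect hQp
  set R' := R.map Q.subtype
  have hR'Q : R' ≤ Q := Subgroup.map_subtype_le R
  have hR'P : R' ≤ P := hR'Q.trans hQP
  have hR'small : ∀ x ∈ R', IsSmall p x := by
    rintro _ ⟨x, hx, rfl⟩
    exact (hRs x hx).imp (fun e => congrArg Subtype.val e)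
      fun ⟨a, e⟩ => ⟨a, congrArg Subtype.val e⟩
  -- the automorphisms restrict to `Q`
  have hrestr : ∀ α ∈ F.autGroup P, ∃ δ : MulAut Q, ∀ x ∈ Q, autFun α x = autFun δ x := by
    intro α hα
    have hm := (isMap_autFun hP).mpr hα
    obtain ⟨δ, -, hδ⟩ := (hm.mono hQP).exists_aut
      (img_eq_of_apply hm hQP fun x hx => ⟨autFun_mem α hx.1, stronglyClosed_apply hYc hm hx.1 hx.2⟩)
    exact ⟨δ, fun x hx => (hδ x hx).symm⟩
  have hinvR : ∀ α ∈ F.autGroup P, ∀ x ∈ R', autFun α x ∈ R' := by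
    rintro α hα _ ⟨x, hx, rfl⟩
    obtain ⟨δ, hδ⟩ := hrestr α hα
    refine ⟨δ x, (Subgroup.characteristic_iff_map_le.mp hRc δ) ⟨x, hx, rfl⟩, ?_⟩
    show ((δ x : Q) : Ω) = autFun α (x : Ω)
    rw [hδ _ x.2, autFun_apply]
  -- the series is invariant on `R'`
  have hinvU : ∀ α ∈ F.autGroup P, ∀ i, ∀ x ∈ R', x ∈ ucs S i → autFun α x ∈ ucs S i := by
    intro α hα i x hx hxi
    obtain ⟨k, hk, e⟩ := h x _ (hR'Q hx).2 (hR'small x hx)
      (((isMap_autFun hP).mpr hα).mono (Subgroup.zpowers_le.mpr (hR'P hx)))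
    obtain ⟨δ, -, hδ⟩ := hk.exists_aut (Subgroup.eq_of_le_of_card_ge hk.img_le hk.card_img.ge)
    obtain ⟨y, hy, rfl⟩ := hxi
    refine ⟨δ y, (Subgroup.characteristic_iff_map_le.mp inferInstance δ) ⟨y, hy, rfl⟩, ?_⟩
    rw [← e]
    show ((δ y : S) : Ω) = k (y : Ω)
    rw [← hδ _ y.2, autFun_apply]
  let B : Subgroup (MulAut P) :=
    { carrier := {α | α ∈ F.autGroup P ∧
        ∀ i, ∀ x ∈ R', x ∈ ucs S (i + 1) → autFun α x * x⁻¹ ∈ ucs S i}
      one_mem' := ⟨Subgroup.one_mem _, fun i x hx _ => by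
        rw [autFun_one (hR'P hx), mul_inv_cancel]; exact one_mem _⟩
      mul_mem' := by
        rintro α β ⟨ha, ha'⟩ ⟨hb, hb'⟩
        refine ⟨Subgroup.mul_mem _ ha hb, fun i x hx hxi => ?_⟩
        rw [autFun_mul _ _ (hR'P hx)]
        have := Subgroup.mul_mem _ (ha' i _ (hinvR β hb x hx) (hinvU β hb _ x hx hxi)) (hb' i x hx hxi)
        convert this using 1
        group
      inv_mem' := by
        rintro α ⟨ha, ha'⟩
        have hai := (F.autGroup P).inv_mem ha
        refine ⟨hai, fun i x hx hxi => ?_⟩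
        have h1 := ha' i _ (hinvR _ hai x hx) (hinvU _ hai _ x hx hxi)
        rw [autFun_inv_apply α (hR'P hx)] at h1
        simpa using Subgroup.inv_mem _ h1 }
  refine le_of_radical hS le_rfl Subgroup.le_normalizer hPc hPr B ?_ (fun α hα => hα.1) ?_ ?_
  · rintro γ hγ α ⟨ha, ha'⟩
    have hgi := (F.autGroup P).inv_mem hγ
    refine ⟨Subgroup.mul_mem _ (Subgroup.mul_mem _ hγ ha) hgi, fun i x hx hxi => ?_⟩
    have hxP := hR'P hx
    rw [autFun_mul _ _ hxP, autFun_mul _ _ (autFun_mem _ hxP)]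
    set y := autFun γ⁻¹ x
    have hy := hinvR _ hgi x hx
    have hd := R'.mul_mem (hinvR _ ha y hy) (R'.inv_mem hy)
    have h1 := hinvU γ hγ i _ hd (ha' i y hy (hinvU _ hgi _ x hx hxi))
    have hm := (isMap_autFun hP).mpr hγ
    rw [hm.map_mul (autFun_mem α (hR'P hy)) (P.inv_mem (hR'P hy)), hm.map_inv (hR'P hy),
      autFun_inv_apply γ hxP] at h1
    exact h1
  · refine pPart_reduce hP fun α hα hcop => ?_
    obtain ⟨δ, hδ⟩ := hrestr α hα.1
    have hδcop : (orderOf δ).Coprime p := hcop.coprime_dvd_left (orderOf_dvd_of_pow_eq_one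
      (eq_one_of_autFun fun x hx => by
        rw [← autFun_pow_agree α δ hQP hδ _ x hx, pow_orderOf_eq_one, autFun_one (hQP hx)]))
    have key : ∀ i : ℕ, ∀ x ∈ R, (x : Ω) ∈ ucs S i → δ x = x := by
      intro i
      induction i with
      | zero =>
        intro x _ hx
        have h0 : (x : Ω) = 1 := by
          obtain ⟨y, hy, e⟩ := hx
          rw [Subgroup.upperCentralSeries_zero] at hy
          rw [← e, Subgroup.mem_bot.mp hy]; rfl
        rw [show x = 1 from Subtype.ext h0, map_one]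
      | succ i ih =>
        intro x hx hxi
        have hxR : (x : Ω) ∈ R' := ⟨x, hx, rfl⟩
        refine fix_of_fix_diff hQp hδcop (ih _ ?_ ?_)
        · exact R.mul_mem (R.inv_mem hx) ((Subgroup.characteristic_iff_map_le.mp hRc δ) ⟨x, hx, rfl⟩)
        · have h1 := hα.2 i _ hxR hxi
          rw [hδ _ x.2, autFun_apply] at h1
          obtain ⟨y, hy, e⟩ := h1
          refine ⟨⟨(x : Ω), hP (hQP x.2)⟩⁻¹ * y * ⟨(x : Ω), hP (hQP x.2)⟩, ?_, ?_⟩
          · simpa using (inferInstance : (Subgroup.upperCentralSeries S i).Normal).conj_mem y hy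
              (⟨(x : Ω), hP (hQP x.2)⟩ : S)⁻¹
          · show (x : Ω)⁻¹ * (y : Ω) * (x : Ω) = (((x⁻¹ * δ x : Q)) : Ω)
            rw [show (y : Ω) = ((δ x : Q) : Ω) * (x : Ω)⁻¹ from e]
            push_cast
            group
    haveI := hS.isNilpotent
    obtain ⟨m, hm⟩ := Group.IsNilpotent.nilpotent (G := S)
    have hδ1 : δ = 1 := hRd δ hδcop fun x hx => key m x hx
      ⟨⟨x, hP (hQP x.2)⟩, by rw [hm]; exact Subgroup.mem_top _, rfl⟩
    refine MulEquiv.ext fun x => fix_of_fix_diff hPp hcop (Subtype.ext ?_)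
    have hd : (((x⁻¹ * α x : P)) : Ω) ∈ Q :=
      ⟨(x⁻¹ * α x : P).2, mem_hyperfocal_of_pPrime hP hα.1 hcop x⟩
    rw [← autFun_apply α, hδ _ hd, hδ1, autFun_one hd]
  · intro g hg hgn
    refine ⟨autInducedBy_le hP (conjAut_mem_autInducedBy hgn hg), fun i x hx hxi => ?_⟩
    rw [autFun_apply_mem _ (hR'P hx), conjAut_apply hgn]
    show g * x * g⁻¹ * x⁻¹ ∈ ucs S i
    have h1 := (ucs S i).inv_mem (conj_diff_mem_ucs hg ((ucs S (i + 1)).inv_mem hxi))
    convert h1 using 1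
    group

end Cfsg.Lib.Fusion.Small
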